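import Mathlib.AlgebraicGeometry.Sites.Fpqc
import Groth.Agent.Sga7.H116.L1

/-!
# Extension of morphisms by faithfully flat descent

`p : S' ⟶ S` flat, surjective, quasi-compact, `η : E ⟶ S` quasi-compact and schematically dominant
(the generic point).  `X` flat over `S`, `Y` separated over `S`.  A morphism `X_E ⟶ Y` whose base
change to `S'` extends to `X_{S'}` extends (uniquely) to `X`.
-/

set_option autoImplicit false
universe u

open CategoryTheory CategoryTheory.Limits AlgebraicGeometry

namespace Groth.Agent.Sga7.H516.GenExt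

open Groth.Agent.Sga7.H116.L1

variable {S S' E X Y X' XE : Scheme.{u}}

/-- Morphisms from a flat scheme to a separated scheme are determined generically. -/
theorem ext_of_generic {η : E ⟶ S} [IsSchemeTheoreticallyDominant η] [QuasiCompact η]
    {x : X ⟶ S} [Flat x] {y : Y ⟶ S} [IsSeparated y]
    {jx : XE ⟶ X} {xE : XE ⟶ E} (hXE : IsPullback jx xE x η)
    {f g : X ⟶ Y} (hs : f ≫ y = g ≫ y) (h : jx ≫ f = jx ≫ g) : f = g := by
  have : IsSchemeTheoreticallyDominant jx := IsSchemeTheoreticallyDominant.of_isPullback hXE.flip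
  exact ext_of_schemeDominant jx y f g hs h

/-- **Extension lemma.** -/
theorem exists_ext {p : S' ⟶ S} [Flat p] [Surjective p] [QuasiCompact p]
    {η : E ⟶ S} [IsSchemeTheoreticallyDominant η] [QuasiCompact η]
    {x : X ⟶ S} [Flat x] {y : Y ⟶ S} [IsSeparated y]
    {px : X' ⟶ X} {x' : X' ⟶ S'} (hX' : IsPullback px x' x p)
    {jx : XE ⟶ X} {xE : XE ⟶ E} (hXE : IsPullback jx xE x η)
    {f : XE ⟶ Y} {g : X' ⟶ Y} (hg : g ≫ y = px ≫ x)
    (hfg : pullback.fst px jx ≫ g = pullback.snd px jx ≫ f) :
    ∃ h : X ⟶ Y, h ≫ y = x ∧ jx ≫ h = f ∧ px ≫ h = g := by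
  have i1 : Flat px := MorphismProperty.of_isPullback (P := @Flat) hX'.flip inferInstance
  have i2 : Surjective px :=
    MorphismProperty.of_isPullback (P := @Surjective) hX'.flip inferInstance
  have i3 : QuasiCompact px :=
    MorphismProperty.of_isPullback (P := @QuasiCompact) hX'.flip inferInstance
  have i4 : IsSchemeTheoreticallyDominant jx :=
    IsSchemeTheoreticallyDominant.of_isPullback hXE.flip
  have i5 : QuasiCompact jx :=
    MorphismProperty.of_isPullback (P := @QuasiCompact) hXE.flip inferInstance
  have key : ∀ {Z : Scheme.{u}} (g₁ g₂ : Z ⟶ X'), g₁ ≫ px = g₂ ≫ px → g₁ ≫ g = g₂ ≫ g := by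
    intro Z g₁ g₂ h12
    have h1 : pullback.fst px px ≫ g = pullback.snd px px ≫ g := by
      let q : pullback px px ⟶ X := pullback.fst px px ≫ px
      have hq : Flat q := inferInstance
      refine ext_of_schemeDominant (pullback.fst q jx) y _ _ ?_ ?_
      · rw [Category.assoc, Category.assoc, hg, pullback.condition_assoc]
      · have h2 : ∀ (r : pullback px px ⟶ X'), r ≫ px = q →
            pullback.fst q jx ≫ r ≫ g = pullback.snd q jx ≫ f := by
          intro r hr
          let l : pullback q jx ⟶ pullback px jx :=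
            pullback.lift (pullback.fst q jx ≫ r) (pullback.snd q jx) (by
              rw [Category.assoc, hr, pullback.condition])
          have h3 : l ≫ pullback.fst px jx = pullback.fst q jx ≫ r := pullback.lift_fst _ _ _
          have h4 : l ≫ pullback.snd px jx = pullback.snd q jx := pullback.lift_snd _ _ _
          rw [← Category.assoc, ← h3, Category.assoc, hfg, ← Category.assoc, h4]
        rw [h2 _ rfl, h2 _ pullback.condition.symm]
    have h2 := congrArg (fun t => pullback.lift g₁ g₂ h12 ≫ t) h1
    simpa only [pullback.lift_fst_assoc, pullback.lift_snd_assoc] using h2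
  let h : X ⟶ Y := EffectiveEpi.desc px g key
  have hh : px ≫ h = g := EffectiveEpi.fac px g key
  have hy : h ≫ y = x := by
    rw [← cancel_epi px, ← Category.assoc, hh, hg]
  refine ⟨h, hy, ?_, hh⟩
  have i6 : EffectiveEpi (pullback.snd px jx) := inferInstance
  rw [← cancel_epi (pullback.snd px jx), ← hfg, ← hh, ← Category.assoc, ← Category.assoc,
    pullback.condition]

end Groth.Agent.Sga7.H516.GenExt
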