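import Groth.Agent.Sga7.H516.LatCoord
import Mathlib.RingTheory.Localization.FractionRing
import Mathlib.LinearAlgebra.TensorProduct.Tower
import Mathlib.RingTheory.Flat.Basic

/-!
# Descent of submodules of `K' ⊗[K] V` along `R → R'`

`R → R'` discrete valuation rings with a common uniformizer `π`, fraction fields `K → K'`, `G` a set
of automorphisms of `R'` over `R` whose invariants modulo `π` come from `R`.  Let `V` be any
`K`-vector space and `M` an `R'`-submodule of `K' ⊗[K] V` with `K' M = K' ⊗[K] V`, stable under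
`σ ⊗ 1` for `σ` in `G`.  Then `M` is generated by `M ∩ V`.  No finiteness is needed.
-/

set_option autoImplicit false
set_option linter.unusedSectionVars false

open scoped TensorProduct

namespace Groth.Agent.Sga7.H516.Lattice

open LatCoord

variable {R R' K K' : Type*} [CommRing R] [IsDomain R] [CommRing R'] [IsDomain R'] [Algebra R R']
  [Field K] [Algebra R K] [IsFractionRing R K] [Field K'] [Algebra R' K'] [IsFractionRing R' K']
  [Algebra K K'] [Algebra R K'] [IsScalarTower R K K'] [IsScalarTower R R' K']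
  {V : Type*} [AddCommGroup V] [Module K V]

/-- The semilinear action `σ ⊗ 1` of an automorphism of `R'` over `R` on `K' ⊗[K] V`. -/
noncomputable def act (K K' V : Type*) [Field K] [Algebra R K] [IsFractionRing R K] [Field K']
    [Algebra R' K'] [IsFractionRing R' K'] [Algebra K K'] [Algebra R K'] [IsScalarTower R K K']
    [IsScalarTower R R' K'] [AddCommGroup V] [Module K V] (σ : R' ≃ₐ[R] R') :
    (K' ⊗[K] V) ≃ₗ[K] (K' ⊗[K] V) :=
  LinearEquiv.rTensor V (IsFractionRing.fieldEquivOfAlgEquiv K K' K' σ).toLinearEquiv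

theorem act_tmul (σ : R' ≃ₐ[R] R') (a : K') (v : V) :
    act K K' V σ (a ⊗ₜ v) = IsFractionRing.fieldEquivOfAlgEquiv K K' K' σ a ⊗ₜ v := rfl

theorem act_algebraMap_tmul (σ : R' ≃ₐ[R] R') (a : R') (v : V) :
    act K K' V σ (algebraMap R' K' a ⊗ₜ v) = algebraMap R' K' (σ a) ⊗ₜ v := by
  rw [act_tmul, IsFractionRing.fieldEquivOfAlgEquiv_algebraMap]

theorem act_one_tmul (σ : R' ≃ₐ[R] R') (v : V) :
    act K K' V σ ((1 : K') ⊗ₜ v) = (1 : K') ⊗ₜ v := by
  rw [act_tmul, map_one]

variable (R) in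
/-- The `R`-submodule `M ∩ V` of `V`. -/
def rat (M : Submodule R' (K' ⊗[K] V)) [Module R V] [IsScalarTower R K V] : Submodule R V where
  carrier := {v | (1 : K') ⊗ₜ[K] v ∈ M}
  add_mem' {a b} ha hb := by
    show (1 : K') ⊗ₜ[K] (a + b) ∈ M
    rw [TensorProduct.tmul_add]
    exact M.add_mem ha hb
  zero_mem' := by
    show (1 : K') ⊗ₜ[K] (0 : V) ∈ M
    rw [TensorProduct.tmul_zero]
    exact M.zero_mem
  smul_mem' c a ha := by
    show (1 : K') ⊗ₜ[K] (c • a) ∈ M
    have h1 : (1 : K') ⊗ₜ[K] (c • a) = algebraMap R R' c • ((1 : K') ⊗ₜ[K] a : K' ⊗[K] V) := by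
      rw [TensorProduct.smul_tmul', ← IsScalarTower.algebraMap_smul K c a,
        ← TensorProduct.smul_tmul]
      congr 1
      rw [Algebra.smul_def, Algebra.smul_def, ← IsScalarTower.algebraMap_apply,
        ← IsScalarTower.algebraMap_apply]
    rw [h1]
    exact M.smul_mem _ ha

theorem mem_rat (M : Submodule R' (K' ⊗[K] V)) [Module R V] [IsScalarTower R K V] (v : V) :
    v ∈ rat R M ↔ (1 : K') ⊗ₜ[K] v ∈ M := Iff.rfl

/-- `c ↦ ∑ c_i ⊗ w_i`. -/
noncomputable def comb (R' K K' : Type*) [CommRing R'] [Field K] [Field K'] [Algebra R' K']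
    [Algebra K K'] {V : Type*} [AddCommGroup V] [Module K V]
    {ι : Type*} [Fintype ι] (w : ι → V) : (ι → R') →ₗ[R'] (K' ⊗[K] V) :=
  Fintype.linearCombination R' fun i => (1 : K') ⊗ₜ[K] w i

theorem comb_apply {ι : Type*} [Fintype ι] (w : ι → V) (c : ι → R') :
    comb R' K K' w c = ∑ i, algebraMap R' K' (c i) ⊗ₜ[K] w i := by
  rw [comb, Fintype.linearCombination_apply]
  refine Finset.sum_congr rfl fun i _ => ?_
  rw [TensorProduct.smul_tmul', Algebra.algebraMap_eq_smul_one]

theorem comb_vec {ι : Type*} [Fintype ι] (w : ι → V) (y : ι → R) :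
    comb R' K K' w (vec R' y) = (1 : K') ⊗ₜ[K] ∑ i, algebraMap R K (y i) • w i := by
  rw [comb_apply, TensorProduct.tmul_sum]
  refine Finset.sum_congr rfl fun i _ => ?_
  rw [vec_apply, ← TensorProduct.smul_tmul, Algebra.smul_def, mul_one,
    ← IsScalarTower.algebraMap_apply, ← IsScalarTower.algebraMap_apply]

/-- Every element of `K' ⊗ V` is of the form `∑ c_i ⊗ w_i` with `c_i` in `R'` if every element
of `R'` divides a power of `π`, up to a unit. -/
theorem exists_comb {π : R} (hπ : π ≠ 0)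
    (hdiv : ∀ x : R', x ≠ 0 → ∃ n : ℕ, x ∣ algebraMap R R' π ^ n) (x : K' ⊗[K] V) :
    ∃ (n : ℕ) (w : Fin n → V) (c : Fin n → R'), comb R' K K' w c = x := by
  induction x with
  | zero => exact ⟨0, Fin.elim0, Fin.elim0, by simp [comb_apply]⟩
  | tmul a v =>
    obtain ⟨p, q, hq, rfl⟩ := IsFractionRing.div_surjective R' a
    obtain ⟨n, c, hc⟩ := hdiv q (nonZeroDivisors.ne_zero hq)
    have hq0 : algebraMap R' K' q ≠ 0 := by
      rw [Ne, IsFractionRing.to_map_eq_zero_iff]
      exact nonZeroDivisors.ne_zero hq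
    have hπK : algebraMap R K π ≠ 0 := by
      rwa [Ne, IsFractionRing.to_map_eq_zero_iff]
    refine ⟨1, fun _ => (algebraMap R K π ^ n)⁻¹ • v, fun _ => p * c, ?_⟩
    have h0 : algebraMap R' K' (algebraMap R R' π) = algebraMap K K' (algebraMap R K π) := by
      rw [← IsScalarTower.algebraMap_apply, ← IsScalarTower.algebraMap_apply]
    rw [comb_apply, Fin.sum_univ_one, ← TensorProduct.smul_tmul]
    congr 1
    have h1 : algebraMap R' K' q * algebraMap R' K' c = algebraMap K K' (algebraMap R K π ^ n) := by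
      rw [← map_mul, ← hc, map_pow, h0, map_pow]
    rw [Algebra.smul_def, map_inv₀, ← h1, map_mul, eq_div_iff hq0]
    have h2 : algebraMap R' K' q * algebraMap R' K' c ≠ 0 := by
      rw [h1, map_pow]
      exact pow_ne_zero _ (by simpa using hπK)
    have h3 := right_ne_zero_of_mul h2
    field_simp
  | add x y hx hy =>
    obtain ⟨n, w, c, rfl⟩ := hx
    obtain ⟨m, w', c', rfl⟩ := hy
    refine ⟨n + m, Fin.append w w', Fin.append c c', ?_⟩
    rw [comb_apply, comb_apply, comb_apply, Fin.sum_univ_add]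
    simp only [Fin.append_left, Fin.append_right]

/-- **Descent of lattices along `R → R'`**. -/
theorem le_span_of_stable [IsPrincipalIdealRing R]
    {π : R} (hπ : π ≠ 0) (hπ0 : algebraMap R R' π ≠ 0)
    (hdiv : ∀ x : R', x ≠ 0 → ∃ n : ℕ, x ∣ algebraMap R R' π ^ n)
    {G : Set (R' ≃ₐ[R] R')} (hG : Inv π G)
    (hloc : ∀ x : R', ¬ algebraMap R R' π ∣ x → IsUnit x)
    (hdvd : ∀ r : R, algebraMap R R' π ∣ algebraMap R R' r → π ∣ r)
    (M : Submodule R' (K' ⊗[K] V)) [Module R V] [IsScalarTower R K V]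
    (hM : ∀ σ ∈ G, ∀ x ∈ M, act K K' V σ x ∈ M)
    (hspan : ∀ v : V, ∃ n : ℕ, algebraMap R R' π ^ n • ((1 : K') ⊗ₜ[K] v : K' ⊗[K] V) ∈ M) :
    M = Submodule.span R' ((fun v : V => (1 : K') ⊗ₜ[K] v) '' (rat R M : Set V)) := by
  refine le_antisymm (fun x hx => ?_) ?_
  · obtain ⟨m, w, c, rfl⟩ := exists_comb (K := K) (K' := K') hπ hdiv x
    choose n hn using fun i => hspan (w i)
    have h1 := gen_eq_of_stable (R := R) hπ0 hG hloc hdvd (M.comap (comb R' K K' w)) (by
      intro σ hσ c hc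
      rw [Submodule.mem_comap] at hc ⊢
      have h2 := hM σ hσ _ hc
      rw [comb_apply] at h2 ⊢
      rw [map_sum] at h2
      refine (Eq.mp ?_ h2)
      congr 1
      refine Finset.sum_congr rfl fun i _ => ?_
      rw [act_algebraMap_tmul]) (∑ i, n i) (by
      intro c
      rw [Submodule.mem_comap, map_smul, comb, Fintype.linearCombination_apply, Finset.smul_sum]
      refine Submodule.sum_mem _ fun i _ => ?_
      rw [smul_comm]
      refine M.smul_mem _ ?_
      obtain ⟨k, hk⟩ := Nat.exists_eq_add_of_le' (Finset.single_le_sum (f := n)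
        (fun _ _ => Nat.zero_le _) (Finset.mem_univ i))
      rw [hk, pow_add, mul_smul]
      exact M.smul_mem _ (hn i))
    have h3 : c ∈ gen (R := R) (M.comap (comb R' K K' w)) := by
      rw [h1]
      exact hx
    have h4 := Submodule.mem_map_of_mem (f := comb R' K K' w) h3
    rw [gen, Submodule.map_span] at h4
    refine Submodule.span_mono ?_ h4
    rintro _ ⟨_, ⟨y, hy, rfl⟩, rfl⟩
    refine ⟨∑ i, algebraMap R K (y i) • w i, ?_, (comb_vec w y).symm⟩
    have h5 : comb R' K K' w (vec R' y) ∈ M := hy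
    rw [comb_vec] at h5
    exact h5
  · rw [Submodule.span_le]
    rintro _ ⟨v, hv, rfl⟩
    exact hv

end Groth.Agent.Sga7.H516.Lattice
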