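import Mathlib.CategoryTheory.Monoidal.Cartesian.Grp

/-!
# Group structures along a functor which is faithful on a class of objects

`F : C ⥤ D` monoidal between cartesian monoidal categories, `P` a class of objects of `C` stable
under finite products, `X` in `P` with `F.obj X ≅ A`, `A` a group object of `D`.  If for `T` in `P`
the map `Hom(T, X) → Hom(F T, A)` is injective with image a subgroup, then `X` is a group object,
compatibly with `F.obj X ≅ A`.
-/

set_option autoImplicit false
set_option linter.unusedSectionVars false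

universe v₁ v₂ u₁ u₂

open CategoryTheory MonoidalCategory CartesianMonoidalCategory MonObj GrpObj

namespace Groth.Agent.Sga7.H516.GrpFaithful

variable {C : Type u₁} [Category.{v₁} C] [CartesianMonoidalCategory C]
  {D : Type u₂} [Category.{v₂} D] [CartesianMonoidalCategory D] (F : C ⥤ D) [F.Monoidal]
  {X : C} {A : D} [GrpObj A] (e : F.obj X ≅ A)

/-- The image of a point of `X` in `A`. -/
def im {T : C} (a : T ⟶ X) : F.obj T ⟶ A := F.map a ≫ e.hom

theorem im_comp {T T' : C} (u : T' ⟶ T) (a : T ⟶ X) : im F e (u ≫ a) = F.map u ≫ im F e a := by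
  rw [im, im, F.map_comp, Category.assoc]

theorem im_injective {T : C} (h : Function.Injective (fun a : T ⟶ X => F.map a)) :
    Function.Injective (im F e : (T ⟶ X) → _) := by
  intro a b hab
  apply h
  rwa [im, im, cancel_mono] at hab

variable {F e}

/-- Multiplicativity of a law. -/
theorem im_lift_mul {m : X ⊗ X ⟶ X} (hm : im F e m = im F e (fst X X) * im F e (snd X X)) {T : C}
    (a b : T ⟶ X) : im F e (lift a b ≫ m) = im F e a * im F e b := by
  rw [im_comp, hm, MonObj.comp_mul, ← im_comp, ← im_comp, lift_fst, lift_snd]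

theorem im_toUnit_one {o : 𝟙_ C ⟶ X} (ho : im F e o = 1) {T : C} :
    im F e (toUnit T ≫ o) = 1 := by
  rw [im_comp, ho, MonObj.comp_one]

theorem im_inv {i : X ⟶ X} (hi : im F e i = (im F e (𝟙 X))⁻¹) {T : C} (a : T ⟶ X) :
    im F e (a ≫ i) = (im F e a)⁻¹ := by
  rw [im_comp, hi, GrpObj.comp_inv, ← im_comp, Category.comp_id]

/-- The monoid structure. -/
@[reducible]
def monObj (m : X ⊗ X ⟶ X) (hm : im F e m = im F e (fst X X) * im F e (snd X X))
    (o : 𝟙_ C ⟶ X) (ho : im F e o = 1)
    (h1 : Function.Injective (im F e : (𝟙_ C ⊗ X ⟶ X) → _))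
    (h2 : Function.Injective (im F e : (X ⊗ 𝟙_ C ⟶ X) → _))
    (h3 : Function.Injective (im F e : ((X ⊗ X) ⊗ X ⟶ X) → _)) : MonObj X where
  one := o
  mul := m
  one_mul := by
    apply h1
    have : o ▷ X = lift (toUnit _ ≫ o) (snd _ _) := by
      ext <;> simp
      congr 1
      exact toUnit_unique _ _
    rw [this, im_lift_mul hm, im_toUnit_one ho, _root_.one_mul, leftUnitor_hom]
  mul_one := by
    apply h2
    have : X ◁ o = lift (fst _ _) (toUnit _ ≫ o) := by
      ext <;> simp
      congr 1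
      exact toUnit_unique _ _
    rw [this, im_lift_mul hm, im_toUnit_one ho, _root_.mul_one, rightUnitor_hom]
  mul_assoc := by
    apply h3
    have e1 : m ▷ X = lift (fst _ _ ≫ m) (snd _ _) := by
      ext <;> simp
    have e2 : fst (X ⊗ X) X ≫ m = lift (fst _ _ ≫ fst _ _) (fst _ _ ≫ snd _ _) ≫ m := by
      congr 1
      ext <;> simp
    have e3 : X ◁ m = lift (fst _ _) (snd _ _ ≫ m) := by
      ext <;> simp
    have e4 : (α_ X X X).hom ≫ lift (fst _ _) (snd _ _ ≫ m) =
        lift (fst _ _ ≫ fst _ _) (lift (fst _ _ ≫ snd _ _) (snd _ _) ≫ m) := by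
      ext
      · simp
      · simp only [comp_lift, lift_snd]
        rw [← Category.assoc]
        congr 1
        ext <;> simp
    rw [e1, im_lift_mul hm, e2, im_lift_mul hm, e3, ← Category.assoc, e4, im_lift_mul hm,
      im_lift_mul hm, _root_.mul_assoc]

/-- The group structure. -/
@[reducible]
def grpObj (m : X ⊗ X ⟶ X) (hm : im F e m = im F e (fst X X) * im F e (snd X X))
    (o : 𝟙_ C ⟶ X) (ho : im F e o = 1) (i : X ⟶ X) (hi : im F e i = (im F e (𝟙 X))⁻¹)
    (h0 : Function.Injective (im F e : (X ⟶ X) → _))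
    (h1 : Function.Injective (im F e : (𝟙_ C ⊗ X ⟶ X) → _))
    (h2 : Function.Injective (im F e : (X ⊗ 𝟙_ C ⟶ X) → _))
    (h3 : Function.Injective (im F e : ((X ⊗ X) ⊗ X ⟶ X) → _)) : GrpObj X where
  __ := monObj m hm o ho h1 h2 h3
  inv := i
  left_inv := by
    apply h0
    show im F e (lift i (𝟙 X) ≫ m) = im F e (toUnit X ≫ o)
    rw [im_lift_mul hm, im_toUnit_one ho, hi, inv_mul_cancel]
  right_inv := by
    apply h0
    show im F e (lift (𝟙 X) i ≫ m) = im F e (toUnit X ≫ o)
    rw [im_lift_mul hm, im_toUnit_one ho, hi, mul_inv_cancel]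

open scoped Obj in
theorem isMonHom_of_im [MonObj X] (hm : im F e μ[X] = im F e (fst X X) * im F e (snd X X))
    (ho : im F e η[X] = 1) : IsMonHom e.hom := by
  constructor
  · have h4 : η[F.obj X] = Functor.LaxMonoidal.ε F ≫ F.map η[X] := rfl
    rw [h4, Category.assoc]
    have h5 : F.map η[X] ≫ e.hom = 1 := ho
    rw [h5, MonObj.comp_one, one_eq_one]
  · have h4 : μ[F.obj X] = Functor.LaxMonoidal.μ F X X ≫ F.map μ[X] := rfl
    rw [h4, Category.assoc]
    have h5 : F.map μ[X] ≫ e.hom = im F e (fst X X) * im F e (snd X X) := hm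
    rw [h5, MonObj.comp_mul, im, im, ← Category.assoc, ← Category.assoc,
      Functor.Monoidal.μ_fst, Functor.Monoidal.μ_snd, Hom.mul_def]
    congr 1
    ext <;> simp

open scoped Obj in
/-- **Group structures along a functor.**  If for `T` in a class `P` of objects stable under finite
products and containing `X` the points `T ⟶ X` inject into the group of points `F T ⟶ A`, with image
stable under products, unit and inverses, then `X` is a group object, compatibly with `e`. -/
theorem exists_grpObj (P : C → Prop) (h1 : P (𝟙_ C)) (h2 : ∀ T T', P T → P T' → P (T ⊗ T'))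
    (hX : P X) (hinj : ∀ T, P T → Function.Injective (fun a : T ⟶ X => F.map a))
    (hmul : ∀ T, P T → ∀ a b : T ⟶ X, ∃ c : T ⟶ X,
      F.map c ≫ e.hom = (F.map a ≫ e.hom) * (F.map b ≫ e.hom))
    (hone : ∃ c : 𝟙_ C ⟶ X, F.map c ≫ e.hom = 1)
    (hinv : ∀ a : X ⟶ X, ∃ c : X ⟶ X, F.map c ≫ e.hom = (F.map a ≫ e.hom)⁻¹) :
    ∃ _ : GrpObj X, IsMonHom e.hom := by
  obtain ⟨m, hm⟩ := hmul (X ⊗ X) (h2 _ _ hX hX) (fst X X) (snd X X)
  obtain ⟨o, ho⟩ := hone
  obtain ⟨i, hi⟩ := hinv (𝟙 X)
  have k0 := im_injective F e (hinj X hX)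
  have k1 := im_injective F e (hinj (𝟙_ C ⊗ X) (h2 _ _ h1 hX))
  have k2 := im_injective F e (hinj (X ⊗ 𝟙_ C) (h2 _ _ hX h1))
  have k3 := im_injective F e (hinj ((X ⊗ X) ⊗ X) (h2 _ _ (h2 _ _ hX hX) hX))
  let _ := grpObj m hm o ho i hi k0 k1 k2 k3
  exact ⟨inferInstance, isMonHom_of_im hm ho⟩

end Groth.Agent.Sga7.H516.GrpFaithful
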