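import Groth.Agent.Sga7.H516.GenExt
import Groth.Agent.Sga7.H516.GrpFaithful
import Groth.Agent.Sga3B.BcPts

/-!
# Descent of group structures

`p : S' ⟶ S` flat, surjective, quasi-compact, `γ : E ⟶ S` quasi-compact and schematically dominant,
`E' = E ×_S S'`.  Let `X` be flat and separated over `S`, with group structures on `X_E` and on
`X_{S'}` which agree over `E'`.  Then `X` has a group structure inducing both.
-/

set_option autoImplicit false
universe u

open CategoryTheory CategoryTheory.Limits AlgebraicGeometry MonoidalCategory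
  CartesianMonoidalCategory MonObj GrpObj

namespace Groth.Agent.Sga7.H516.GrpDescent

open Groth.Agent.Sga3B.BcPts GenExt

variable {S S' E E' : Scheme.{u}} {p : S' ⟶ S} {γ : E ⟶ S} {a : E' ⟶ E} {b : E' ⟶ S'}

section Rel

variable {A : Over E} {G' : Over S'} (e' : Red.bc b G' ≅ Red.bc a A)
  {X : Over S} {j : A.left ⟶ X.left} {q : G'.left ⟶ X.left}

/-- The isomorphism `X_E ≅ A`. -/
noncomputable def genIso (hj : IsPullback j A.hom X.hom γ) : (Over.pullback γ).obj X ≅ A :=
  Over.isoMk hj.isoPullback.symm (by simp)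

theorem genIso_hom_left (hj : IsPullback j A.hom X.hom γ) :
    (genIso hj).hom.left ≫ j = pullback.fst X.hom γ := by
  simp [genIso]

/-- The comparison of points over `E'`. -/
noncomputable def cmp (W : Over E') (u : (Over.map b).obj W ⟶ G') : (Over.map a).obj W ⟶ A :=
  (bcEquiv a W A).symm (bcEquiv b W G' u ≫ e'.hom)

theorem cmp_mul [GrpObj A] [GrpObj G'] [IsMonHom e'.hom] (W : Over E') (u v : (Over.map b).obj W ⟶ G') :
    cmp e' W (u * v) = cmp e' W u * cmp e' W v := by
  rw [cmp, bcEquiv_mul, MonObj.mul_comp, cmp, cmp]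
  exact (bcMulEquiv a W A).symm.map_mul _ _

theorem cmp_one [GrpObj A] [GrpObj G'] [IsMonHom e'.hom] (W : Over E') :
    cmp e' W (1 : (Over.map b).obj W ⟶ G') = 1 := by
  rw [cmp, bcEquiv_one, MonObj.one_comp]
  exact (bcMulEquiv a W A).symm.map_one

theorem cmp_inv [GrpObj A] [GrpObj G'] [IsMonHom e'.hom] (W : Over E') (u : (Over.map b).obj W ⟶ G') :
    cmp e' W u⁻¹ = (cmp e' W u)⁻¹ := by
  rw [eq_inv_iff_mul_eq_one, ← cmp_mul, inv_mul_cancel, cmp_one]

theorem bcEquiv_left_fst {T S : Scheme.{u}} (f : T ⟶ S) (W : Over T) (Y : Over S)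
    (x : (Over.map f).obj W ⟶ Y) :
    (bcEquiv f W Y x).left ≫ pullback.fst Y.hom f = x.left := by
  simp [bcEquiv, Over.mapPullbackAdj]
  exact pullback.lift_fst _ _ _

/-- The comparison of points in terms of `X`. -/
theorem left_cmp (hc : pullback.fst G'.hom b ≫ q = e'.hom.left ≫ pullback.fst A.hom a ≫ j)
    (W : Over E') (u : (Over.map b).obj W ⟶ G') :
    (cmp e' W u).left ≫ j = u.left ≫ q := by
  have h1 := bcEquiv_left_fst a W A (cmp e' W u)
  rw [cmp, Equiv.apply_symm_apply] at h1
  have h2 := bcEquiv_left_fst b W G' u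
  rw [cmp, ← h1, ← h2, Over.comp_left, Category.assoc, Category.assoc, Category.assoc, hc]

/-- The comparison of points in terms of `X`. -/
theorem eq_cmp (hj : IsPullback j A.hom X.hom γ)
    (hc : pullback.fst G'.hom b ≫ q = e'.hom.left ≫ pullback.fst A.hom a ≫ j)
    (W : Over E') (u : (Over.map b).obj W ⟶ G') (v : (Over.map a).obj W ⟶ A)
    (h : u.left ≫ q = v.left ≫ j) : v = cmp e' W u := by
  ext1
  apply hj.hom_ext
  · rw [left_cmp e' hc, h]
  · rw [Over.w, Over.w]

end Rel

section Main

variable [Flat p] [Surjective p] [QuasiCompact p] [IsSchemeTheoreticallyDominant γ]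
  [QuasiCompact γ] (hE : IsPullback a b γ p)
  {A : Over E} {G' : Over S'} (e' : Red.bc b G' ≅ Red.bc a A)
  {X : Over S} [Flat X.hom] [IsSeparated X.hom] {j : A.left ⟶ X.left} {q : G'.left ⟶ X.left}
  (hj : IsPullback j A.hom X.hom γ) (hq : IsPullback q G'.hom X.hom p)
  (hc : pullback.fst G'.hom b ≫ q = e'.hom.left ≫ pullback.fst A.hom a ≫ j)

include hE hc hj hq in
/-- Points of `X` from compatible points of `A` and `G'`. -/
theorem exists_point (T : Over S) [Flat T.hom] (f : (Over.pullback γ).obj T ⟶ A)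
    (g : (Over.pullback p).obj T ⟶ G')
    (hfg : ∀ (W : Over E') (w : (Over.map a).obj W ⟶ (Over.pullback γ).obj T)
      (w' : (Over.map b).obj W ⟶ (Over.pullback p).obj T),
      w.left ≫ pullback.fst T.hom γ = w'.left ≫ pullback.fst T.hom p →
      w ≫ f = cmp e' W (w' ≫ g)) :
    ∃ h : T ⟶ X, (Over.pullback γ).map h ≫ (genIso hj).hom = f ∧
      (Over.pullback p).map h ≫ (genIso hq).hom = g := by
  let px := pullback.fst T.hom p
  let jx := pullback.fst T.hom γ
  let W : Over E' := Over.mk (hE.lift (pullback.snd px jx ≫ pullback.snd T.hom γ)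
    (pullback.fst px jx ≫ pullback.snd T.hom p) (by
      rw [Category.assoc, Category.assoc, ← pullback.condition, ← pullback.condition,
        pullback.condition_assoc]))
  let w : (Over.map a).obj W ⟶ (Over.pullback γ).obj T :=
    Over.homMk (pullback.snd px jx) (by simp [W])
  let w' : (Over.map b).obj W ⟶ (Over.pullback p).obj T :=
    Over.homMk (pullback.fst px jx) (by simp [W])
  have h1 := hfg W w w' pullback.condition.symm
  obtain ⟨h, hh, hhj, hhp⟩ := exists_ext (y := X.hom)
    (IsPullback.of_hasPullback T.hom p) (IsPullback.of_hasPullback T.hom γ)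
    (f := f.left ≫ j) (g := g.left ≫ q) (by
      rw [Category.assoc, hq.w, ← Category.assoc, Over.w, pullback.condition]
      rfl) (by
      have h2 : (w ≫ f).left ≫ j = (cmp e' W (w' ≫ g)).left ≫ j := by rw [h1]
      rw [left_cmp e' hc] at h2
      exact h2.symm)
  refine ⟨Over.homMk h hh, ?_, ?_⟩
  · ext1
    apply hj.hom_ext
    · rw [Over.comp_left, Category.assoc, genIso_hom_left, ← hhj]
      exact pullback.lift_fst _ _ _
    · rw [Over.w, Over.w]
  · ext1
    apply hq.hom_ext
    · rw [Over.comp_left, Category.assoc, genIso_hom_left, ← hhp]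
      exact pullback.lift_fst _ _ _
    · rw [Over.w, Over.w]

include hc in
omit [Flat p] [Surjective p] [QuasiCompact p] [IsSchemeTheoreticallyDominant γ]
  [QuasiCompact γ] [Flat X.hom] [IsSeparated X.hom] in
/-- Points of `X` give compatible points of `A` and `G'`. -/
theorem cmp_point (T : Over S) (h : T ⟶ X)
    (W : Over E') (w : (Over.map a).obj W ⟶ (Over.pullback γ).obj T)
    (w' : (Over.map b).obj W ⟶ (Over.pullback p).obj T)
    (hw : w.left ≫ pullback.fst T.hom γ = w'.left ≫ pullback.fst T.hom p) :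
    w ≫ (Over.pullback γ).map h ≫ (genIso hj).hom =
      cmp e' W (w' ≫ (Over.pullback p).map h ≫ (genIso hq).hom) := by
  refine eq_cmp e' hj hc W _ _ ?_
  have h1 : ((Over.pullback p).map h).left ≫ pullback.fst X.hom p =
    pullback.fst T.hom p ≫ h.left := pullback.lift_fst _ _ _
  have h2 : ((Over.pullback γ).map h).left ≫ pullback.fst X.hom γ =
    pullback.fst T.hom γ ≫ h.left := pullback.lift_fst _ _ _
  rw [Over.comp_left, Over.comp_left, Category.assoc, Category.assoc, genIso_hom_left, h1,
    Over.comp_left, Over.comp_left, Category.assoc, Category.assoc, genIso_hom_left, h2,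
    ← Category.assoc, ← hw, Category.assoc]

include hE hc e' in
/-- **Descent of group structures.** -/
theorem exists_grpObj [GrpObj A] [GrpObj G'] [IsMonHom e'.hom] : ∃ _ : GrpObj X, IsMonHom (genIso hj).hom ∧ IsMonHom (genIso hq).hom := by
  have hinj : ∀ T : Over S, Flat T.hom →
      Function.Injective (fun c : T ⟶ X => (Over.pullback γ).map c) := by
    intro T hT c c' hcc
    ext1
    refine ext_of_generic (x := T.hom) (y := X.hom) (IsPullback.of_hasPullback T.hom γ)
      ((Over.w c).trans (Over.w c').symm) ?_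
    have h1 := congrArg (fun t => t.left ≫ pullback.fst X.hom γ) hcc
    have h2 : ∀ c : T ⟶ X, ((Over.pullback γ).map c).left ≫ pullback.fst X.hom γ =
      pullback.fst T.hom γ ≫ c.left := fun c => pullback.lift_fst _ _ _
    dsimp only at h1
    rw [h2, h2] at h1
    exact h1
  have hmul : ∀ T : Over S, Flat T.hom → ∀ c d : T ⟶ X, ∃ m : T ⟶ X,
      (Over.pullback γ).map m ≫ (genIso hj).hom = ((Over.pullback γ).map c ≫ (genIso hj).hom) *
        ((Over.pullback γ).map d ≫ (genIso hj).hom) ∧
      (Over.pullback p).map m ≫ (genIso hq).hom = ((Over.pullback p).map c ≫ (genIso hq).hom) *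
        ((Over.pullback p).map d ≫ (genIso hq).hom) := by
    intro T hT c d
    refine exists_point hE e' hj hq hc T _ _ fun W w w' hw => ?_
    rw [MonObj.comp_mul, MonObj.comp_mul, cmp_mul, cmp_point e' hj hq hc T c W w w' hw,
      cmp_point e' hj hq hc T d W w w' hw]
  have hone : ∃ m : 𝟙_ (Over S) ⟶ X, (Over.pullback γ).map m ≫ (genIso hj).hom = 1 ∧
      (Over.pullback p).map m ≫ (genIso hq).hom = 1 := by
    have : Flat (𝟙_ (Over S)).hom := inferInstanceAs (Flat (𝟙 S))
    refine exists_point hE e' hj hq hc _ _ _ fun W w w' hw => ?_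
    rw [MonObj.comp_one, MonObj.comp_one, cmp_one]
  have hinv : ∀ c : X ⟶ X, ∃ m : X ⟶ X,
      (Over.pullback γ).map m ≫ (genIso hj).hom = ((Over.pullback γ).map c ≫ (genIso hj).hom)⁻¹ := by
    intro c
    obtain ⟨m, hm, -⟩ := exists_point hE e' hj hq hc X
      ((Over.pullback γ).map c ≫ (genIso hj).hom)⁻¹ ((Over.pullback p).map c ≫ (genIso hq).hom)⁻¹
      fun W w w' hw => by
        rw [GrpObj.comp_inv, GrpObj.comp_inv, cmp_inv, cmp_point e' hj hq hc X c W w w' hw]
    exact ⟨m, hm⟩
  obtain ⟨inst, hinst⟩ := GrpFaithful.exists_grpObj (F := Over.pullback γ) (e := genIso hj)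
    (fun T => Flat T.hom) (inferInstanceAs (Flat (𝟙 S)))
    (fun T T' h h' => by
      have : Flat T.hom := h
      have : Flat T'.hom := h'
      exact inferInstanceAs (Flat (pullback.fst T.hom T'.hom ≫ T.hom)))
    inferInstance hinj (fun T hT c d => by
      obtain ⟨m, hm, -⟩ := hmul T hT c d
      exact ⟨m, hm⟩) (by
      obtain ⟨m, hm, -⟩ := hone
      exact ⟨m, hm⟩) hinv
  refine ⟨inst, hinst, GrpFaithful.isMonHom_of_im ?_ ?_⟩
  · have hfl : Flat (X ⊗ X).hom := inferInstanceAs (Flat (pullback.fst X.hom X.hom ≫ X.hom))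
    obtain ⟨m, hm, hm'⟩ := hmul (X ⊗ X) hfl (fst X X) (snd X X)
    have h1 : m = μ[X] := by
      apply hinj _ hfl
      dsimp only
      rw [← cancel_mono (genIso hj).hom, hm, ← MonObj.mul_comp, ← Functor.map_mul]
      congr 2
      rw [Hom.mul_def, lift_fst_snd, Category.id_comp]
    rw [← h1]
    exact hm'
  · obtain ⟨m, hm, hm'⟩ := hone
    have h1 : m = η[X] := by
      apply hinj _ (inferInstanceAs (Flat (𝟙 S)))
      dsimp only
      rw [← cancel_mono (genIso hj).hom, hm, one_eq_one, Functor.map_one, MonObj.one_comp]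
    rw [← h1]
    exact hm'

end Main

end Groth.Agent.Sga7.H516.GrpDescent
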