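import Groth.Agent.Sga7.H738.RankZeroBc
import Groth.Agent.Sga7.H737.RankZeroBC
import Mathlib.AlgebraicGeometry.Morphisms.Proper
import Mathlib.AlgebraicGeometry.Morphisms.Finite

/-!
# Unipotent rank zero: descent, proper groups

* `fibreUnipotentRankZero_of_bc`: unipotent rank zero of the fibre of `G ×_S S'` at `s'` implies
  unipotent rank zero of the fibre of `G` at the image of `s'`.
* `fibreUnipotentRankZero_of_isProper`: a proper group has unipotent rank zero.
* `fibreUnipotentRankZero_of_mono`, `of_iso`.
-/

set_option autoImplicit false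

universe u

open CategoryTheory CategoryTheory.Limits MonoidalCategory CartesianMonoidalCategory MonObj GrpObj
  AlgebraicGeometry

namespace Groth.Agent.Sga7.H516.RankZero

open Groth.Agent.Sga3B Groth.Agent.Sga3B.RedIso Groth.Agent.Sga3B.GaPts
  Groth.Agent.Sga7.H737.RankZeroBC Groth.Agent.Sga7.H738.RankZeroBc

variable {S S' : Scheme.{u}}

theorem isIso_left_of_grpIso {G H : Over S} [GrpObj G] [GrpObj H] (e : Grp.mk G ≅ Grp.mk H) :
    IsIso e.hom.hom.hom.left :=
  inferInstanceAs (IsIso ((Over.forget _).map (und e).hom))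

/-- Unipotent rank zero descends. -/
theorem fibreUnipotentRankZero_of_bc (f : S' ⟶ S) (G : Over S) [GrpObj G] (s' : S')
    (h : SGA7.FibreUnipotentRankZero s' (Red.bc f G)) : SGA7.FibreUnipotentRankZero (f s') G := by
  intro j hj hcl
  obtain ⟨e, he⟩ := exists_geomPt f s'
  let q := Spec.map (CommRingCat.ofHom e)
  let i : Grp.mk (Red.bc q (Red.geomFibre (f s') G)) ≅ Grp.mk (Red.geomFibre s' (Red.bc f G)) :=
    (BcIso.bcCompIso q (Red.geomPt (f s')) G).symm ≪≫ BcIso.bcCongrIso he G ≪≫
      BcIso.bcCompIso (Red.geomPt s') f G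
  let g : Grp.mk (Red.Ga _) ≅ Grp.mk (Red.bc q (Red.Ga _)) := (gaBc q).symm
  have h1 : IsClosedImmersion ((Over.pullback q).map j).left :=
    MorphismProperty.of_isPullback (H737.FlatMonoBC.isPullback_map q j).flip hcl
  have hg : IsIso (und g).hom.left := isIso_left_of_grpIso g
  have hi : IsIso (und i).hom.left := isIso_left_of_grpIso i
  refine h ((und g).hom ≫ (Over.pullback q).map j ≫ (und i).hom) inferInstance ?_
  rw [Over.comp_left, Over.comp_left]
  infer_instance

/-- Unipotent rank zero passes to subgroups (`i` a closed immersion on the geometric fibre). -/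
theorem fibreUnipotentRankZero_of_isClosedImmersion (s : S) (G H : Over S) [GrpObj G] [GrpObj H]
    (i : G ⟶ H) [IsMonHom i] (hi : IsClosedImmersion ((Over.pullback (Red.geomPt s)).map i).left)
    (h : SGA7.FibreUnipotentRankZero s H) : SGA7.FibreUnipotentRankZero s G := by
  intro j hj hcl
  refine h (j ≫ (Over.pullback (Red.geomPt s)).map i) inferInstance ?_
  rw [Over.comp_left]
  infer_instance

/-- Unipotent rank zero is invariant under isomorphisms. -/
theorem fibreUnipotentRankZero_of_iso (s : S) {G H : Over S} [GrpObj G] [GrpObj H]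
    (i : G ≅ H) [IsMonHom i.hom] (h : SGA7.FibreUnipotentRankZero s H) :
    SGA7.FibreUnipotentRankZero s G := by
  refine fibreUnipotentRankZero_of_isClosedImmersion s G H i.hom ?_ h
  have : IsIso ((Over.pullback (Red.geomPt s)).map i.hom).left :=
    inferInstanceAs (IsIso ((Over.forget _).map ((Over.pullback (Red.geomPt s)).map i.hom)))
  infer_instance

/-- The additive group over an infinite field is not finite. -/
theorem not_isFinite_ga (k : Type u) [Field k] [Infinite k] :
    ¬ IsFinite (Red.Ga (Spec (CommRingCat.of k))).hom := by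
  intro hfin
  let G := Red.Ga (Spec (CommRingCat.of k))
  have haff : IsAffine G.left := isAffine_of_isAffineHom G.hom
  have h1 : (G.hom.appTop).hom.Finite := by
    have := hfin.finite_app (⊤ : (Spec (CommRingCat.of k)).Opens) (isAffineOpen_top _)
    exact this
  let t : Γ(G.left, ⊤) := Red.gaFn (𝟙 G)
  obtain ⟨P, hP, hPt⟩ := h1.to_isIntegral t
  -- evaluation at the rational points
  have h2 : ∀ c : Γ(Spec (CommRingCat.of k), ⊤), P.eval c = 0 := by
    intro c
    let x : 𝟙_ (Over (Spec (CommRingCat.of k))) ⟶ G := gaPt (𝟙_ _) c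
    have h3 : x.left.appTop t = c := by
      rw [← gaFn_comp, Category.comp_id, gaFn_gaPt]
    have h4 : (x.left.appTop.hom.comp G.hom.appTop.hom) = RingHom.id _ := by
      have h5 : x.left ≫ G.hom = 𝟙 _ := Over.w x
      have h6 := congrArg Scheme.Hom.appTop h5
      rw [Scheme.Hom.comp_appTop] at h6
      exact congrArg CommRingCat.Hom.hom h6
    have h7 := congrArg x.left.appTop.hom hPt
    rw [Polynomial.hom_eval₂, h4, map_zero] at h7
    have h8 : x.left.appTop.hom t = c := h3
    rw [h8] at h7
    exact h7
  let ε : k ≃+* Γ(Spec (CommRingCat.of k), ⊤) :=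
    (Scheme.ΓSpecIso (CommRingCat.of k)).symm.commRingCatIsoToRingEquiv
  have : Infinite Γ(Spec (CommRingCat.of k), ⊤) := Infinite.of_injective ε ε.injective
  have : IsDomain Γ(Spec (CommRingCat.of k), ⊤) :=
    MulEquiv.isDomain k ε.symm.toMulEquiv
  have h9 : P = 0 := Polynomial.funext fun c => by rw [h2, Polynomial.eval_zero]
  exact hP.ne_zero h9

/-- A proper group over a field has unipotent rank zero. -/
theorem fibreUnipotentRankZero_of_isProper (s : S) (G : Over S) [GrpObj G]
    (h : IsProper (Red.geomFibre s G).hom) : SGA7.FibreUnipotentRankZero s G := by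
  intro j _ hcl
  have h1 : IsProper (Red.Ga (Spec (CommRingCat.of (AlgebraicClosure (S.residueField s))))).hom := by
    rw [← Over.w j]
    infer_instance
  have h2 : IsFinite (Red.Ga (Spec (CommRingCat.of (AlgebraicClosure (S.residueField s))))).hom :=
    (IsFinite.iff_isProper_and_isAffineHom).2 ⟨h1, inferInstance⟩
  exact not_isFinite_ga _ h2

end Groth.Agent.Sga7.H516.RankZero
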