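import Groth.Agent.Sga7.H516.Square
import Groth.Agent.Sga7.H516.GrpDescent
import Groth.Agent.Sga7.H516.RankZero
import Groth.Agent.Etrest.ProperOver

/-!
# From the descent of the scheme to the descent of the group scheme

`R` a discrete valuation ring, `R'` a strict henselization, `K`, `K'` the fraction fields, `A` a
group scheme over `K`, `G'` a smooth separated quasi-compact group scheme over `R'` with
`G'_{K'} ≅ A_{K'}`.  `Desc` says that the scheme `G'` descends to `R`, compatibly with `A`.

* `exists_group_of_desc`: then the group scheme `G'` descends to a smooth separated quasi-compact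
  group scheme over `R` with generic fibre `A`.
* `hasSemistableReduction_of_desc`.
-/

set_option autoImplicit false
set_option linter.unusedSectionVars false
universe u

open CategoryTheory CategoryTheory.Limits AlgebraicGeometry MonoidalCategory
  CartesianMonoidalCategory MonObj GrpObj

namespace Groth.Agent.Sga7.H516.Assemble

open Square GrpDescent

section Def

variable (R R' K K' : Type u) [CommRing R] [CommRing R'] [Algebra R R'] [Field K] [Algebra R K]
  [Field K'] [Algebra R' K'] [Algebra K K']

/-- The scheme `G'` over `R'` descends to `R`, compatibly with the scheme `A` over `K`. -/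
def Desc (A : Over (Spec (CommRingCat.of K))) (G' : Over (Spec (CommRingCat.of R')))
    (e' : (SGA7.genFib R' K').obj G' ≅ Red.bc (sp K K') A) : Prop :=
  ∃ (X : Over (Spec (CommRingCat.of R))) (j : A.left ⟶ X.left) (q : G'.left ⟶ X.left),
    IsPullback j A.hom X.hom (sp R K) ∧ IsPullback q G'.hom X.hom (sp R R') ∧
      pullback.fst G'.hom (sp R' K') ≫ q = e'.hom.left ≫ pullback.fst A.hom (sp K K') ≫ j

end Def

variable (R R' K K' : Type u) [CommRing R] [IsDomain R] [IsDiscreteValuationRing R] [CommRing R']
  [IsDomain R'] [IsLocalRing R'] [Algebra R R'] [IsLocalHom (algebraMap R R')]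
  [Hensel.IsStrictHenselization R R']
  [Field K] [Algebra R K] [IsFractionRing R K] [Field K'] [Algebra R' K'] [IsFractionRing R' K']
  [Algebra K K'] [Algebra R K'] [IsScalarTower R K K'] [IsScalarTower R R' K']
  (A : Over (Spec (CommRingCat.of K))) [GrpObj A]
  (G' : Over (Spec (CommRingCat.of R'))) [GrpObj G'] [Smooth G'.hom] [IsSeparated G'.hom]
  [QuasiCompact G'.hom] (e' : (SGA7.genFib R' K').obj G' ≅ Red.bc (sp K K') A)
  [IsMonHom e'.hom]

theorem sp_descent : (@Surjective ⊓ @Flat ⊓ @QuasiCompact : MorphismProperty Scheme.{u}) (sp R R') :=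
  ⟨⟨inferInstance, inferInstance⟩, inferInstance⟩

/-- **Descent of the group scheme.** -/
theorem exists_group_of_desc (h : Desc R R' K K' A G' e') :
    ∃ (G : Over (Spec (CommRingCat.of R))) (_ : GrpObj G) (e : (SGA7.genFib R K).obj G ≅ A)
      (φ : Red.bc (sp R R') G ≅ G'), IsMonHom e.hom ∧ IsMonHom φ.hom ∧
      Smooth G.hom ∧ IsSeparated G.hom ∧ QuasiCompact G.hom := by
  obtain ⟨X, j, q, hj, hq, hc⟩ := h
  have hsm : Smooth X.hom := MorphismProperty.of_isPullback_of_descendsAlong
    (P := @Smooth) hq.flip (sp_descent R R') inferInstance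
  have hsep : IsSeparated X.hom := MorphismProperty.of_isPullback_of_descendsAlong
    (P := @IsSeparated) hq.flip (sp_descent R R') inferInstance
  have hqs : Surjective q :=
    MorphismProperty.of_isPullback (P := @Surjective) hq.flip inferInstance
  have hqc : QuasiCompact X.hom := by
    have h1 : CompactSpace G'.left := by
      have : QuasiCompact G'.hom := inferInstance
      exact QuasiCompact.compactSpace_of_compactSpace G'.hom
    have h2 : CompactSpace X.left := by
      refine ⟨?_⟩
      rw [← q.surjective.range_eq]
      exact isCompact_range q.continuous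
    exact (HasAffineProperty.iff_of_isAffine (P := @QuasiCompact) (f := X.hom)).2 h2
  obtain ⟨inst, h1, h2⟩ := exists_grpObj (isPullback_sp R R' K K') e' hj hq hc
  exact ⟨X, inst, genIso hj, genIso hq, h1, h2, hsm, hsep, hqc⟩

omit [Hensel.IsStrictHenselization R R'] [IsDomain R'] [IsLocalRing R'] [CommRing R'] [Algebra R R']
  [IsLocalHom (algebraMap R R')] in
/-- The two points of the spectrum of a discrete valuation ring. -/
theorem eq_closedPoint_or (s : Spec (CommRingCat.of R)) :
    s = IsLocalRing.closedPoint R ∨ s.asIdeal = ⊥ := by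
  by_cases h : s.asIdeal = ⊥
  · exact Or.inr h
  · left
    apply PrimeSpectrum.ext
    have h1 : s.asIdeal.IsMaximal := Ring.DimensionLEOne.maximalOfPrime h s.isPrime
    exact IsLocalRing.eq_maximalIdeal h1

/-- **Semistable reduction from descent.** -/
theorem hasSemistableReduction_of_desc [IsProper A.hom] (h : Desc R R' K K' A G' e')
    (hr : SGA7.FibreUnipotentRankZero (IsLocalRing.closedPoint R') G') :
    SGA7.HasSemistableReduction R K A := by
  obtain ⟨G, iG, e, φ, he, hφ, h1, h2, h3⟩ := exists_group_of_desc R R' K K' A G' e' h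
  refine ⟨G, iG, e, he, h1, h2, h3, fun s => ?_⟩
  rcases eq_closedPoint_or R s with rfl | hs
  · have h4 : sp R R' (IsLocalRing.closedPoint R') = IsLocalRing.closedPoint R :=
      IsLocalRing.comap_closedPoint (algebraMap R R')
    rw [← h4]
    exact RankZero.fibreUnipotentRankZero_of_bc (sp R R') G _
      (RankZero.fibreUnipotentRankZero_of_iso _ φ hr)
  · obtain ⟨z, rfl⟩ := H116.L1.exists_gen_eq R K s hs
    refine RankZero.fibreUnipotentRankZero_of_bc (sp R K) G z
      (RankZero.fibreUnipotentRankZero_of_iso _ e
        (RankZero.fibreUnipotentRankZero_of_isProper z A ?_))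
    exact MorphismProperty.pullback_snd (P := @IsProper) _ _ inferInstance

end Groth.Agent.Sga7.H516.Assemble
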