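import Groth.Agent.Sga7.H516.CovDiv
import Groth.Agent.Sga7.H331.Sec
import Mathlib.RingTheory.TensorProduct.IsBaseChangeFree
import Mathlib.RingTheory.Localization.Module
import Mathlib.Algebra.Category.Ring.Constructions

/-!
# Sections of the pull back of a divisor along an extension of fields

`A` an integral scheme over a field `K`, `P = A ×_K K'` integral, `D` a locally principal family of
local equations on `A`.  Every section of `p^* D` is a `K'`-linear combination of sections of `D`.
-/

set_option autoImplicit false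
set_option linter.unusedSectionVars false
universe u

open AlgebraicGeometry CategoryTheory CategoryTheory.Limits TopologicalSpace Opposite
open Groth.Agent.Dix.Center Groth.Agent.Grpsch.GrowthFF Groth.Agent.Sga7.H730.Dv

namespace Groth.Agent.Sga7.H516.CovBC

open CovDiv

section Alg

variable {K K' : Type u} [Field K] [Field K'] [Algebra K K'] {B B' : CommRingCat.{u}}
  {β : CommRingCat.of K ⟶ B} {β' : CommRingCat.of K' ⟶ B'} {ψ : B ⟶ B'}
  (h : IsPushout (CommRingCat.ofHom (algebraMap K K')) β β' ψ)
  {Λ : Type*} (e : Module.Basis Λ K K')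

include h in
theorem comp_eq : β'.hom.comp (algebraMap K K') = ψ.hom.comp β.hom := by
  have := congrArg CommRingCat.Hom.hom h.w
  exact this

include h e in
theorem exists_coord (g : B') : ∃ c : Λ →₀ B, g = c.sum fun i x => β'.hom (e i) * ψ.hom x := by
  have hc := comp_eq h
  let _ : Algebra K B := β.hom.toAlgebra
  let _ : Algebra K' B' := β'.hom.toAlgebra
  let _ : Algebra B B' := ψ.hom.toAlgebra
  let _ : Algebra K B' := (ψ.hom.comp β.hom).toAlgebra
  have : IsScalarTower K B B' := IsScalarTower.of_algebraMap_eq fun _ => rfl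
  have : IsScalarTower K K' B' := IsScalarTower.of_algebraMap_eq fun x => (congr($hc x)).symm
  have h1 : Algebra.IsPushout K K' B B' := CommRingCat.isPushout_iff_isPushout.1 h
  have h2 : Algebra.IsPushout K B K' B' := h1.symm
  have h3 := h2.out
  let b := h3.basis e
  refine ⟨b.repr g, ?_⟩
  conv_lhs => rw [← b.linearCombination_repr g]
  rw [Finsupp.linearCombination_apply]
  refine Finsupp.sum_congr fun i _ => ?_
  have h4 : b i = β'.hom (e i) := IsBaseChange.basis_apply e h3 i
  rw [h4, Algebra.smul_def, mul_comm]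
  rfl

include h in
theorem eq_zero_of_sum_eq_zero [IsDomain B] {F F' : Type u} [Field F] [Field F'] [Algebra B F]
    [IsFractionRing B F] {j' : B' →+* F'} (hj' : Function.Injective j') {θ : F →+* F'}
    (hθ : θ.comp (algebraMap B F) = j'.comp ψ.hom) (c : Λ →₀ F)
    (h0 : (c.sum fun i x => j' (β'.hom (e i)) * θ x) = 0) : c = 0 := by
  have hc := comp_eq h
  let _ : Algebra K B := β.hom.toAlgebra
  let _ : Algebra K' B' := β'.hom.toAlgebra
  let _ : Algebra B B' := ψ.hom.toAlgebra
  let _ : Algebra K B' := (ψ.hom.comp β.hom).toAlgebra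
  have : IsScalarTower K B B' := IsScalarTower.of_algebraMap_eq fun _ => rfl
  have : IsScalarTower K K' B' := IsScalarTower.of_algebraMap_eq fun x => (congr($hc x)).symm
  have h1 : Algebra.IsPushout K K' B B' := CommRingCat.isPushout_iff_isPushout.1 h
  have h2 : Algebra.IsPushout K B K' B' := h1.symm
  have h3 := h2.out
  let b := h3.basis e
  let _ : Algebra F F' := θ.toAlgebra
  let _ : Algebra B F' := (j'.comp ψ.hom).toAlgebra
  have : IsScalarTower B F F' := IsScalarTower.of_algebraMap_eq fun x => (congr($hθ x)).symm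
  let J : B' →ₗ[B] F' :=
    { toFun := j'
      map_add' := map_add j'
      map_smul' := fun r x => by
        rw [Algebra.smul_def, map_mul, Algebra.smul_def]
        rfl }
  have h4 : LinearIndependent B (J ∘ b) := b.linearIndependent.map' J
    (LinearMap.ker_eq_bot.2 hj')
  have h5 : LinearIndependent F (J ∘ b) := (LinearIndependent.iff_fractionRing B F).1 h4
  rw [linearIndependent_iff] at h5
  apply h5
  rw [Finsupp.linearCombination_apply, ← h0]
  refine Finsupp.sum_congr fun i _ => ?_
  have h6 : b i = β'.hom (e i) := IsBaseChange.basis_apply e h3 i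
  rw [Function.comp_apply, h6, Algebra.smul_def, mul_comm]
  rfl

end Alg

section Geom

variable {K K' : Type u} [Field K] [Field K'] {A P : Scheme.{u}}
  [AlgebraicGeometry.IsIntegral A] [AlgebraicGeometry.IsIntegral P]

/-- The constants in the function field. -/
noncomputable def kap {K' : Type u} [CommRing K'] (b : P ⟶ Spec (CommRingCat.of K')) :
    K' →+* P.functionField :=
  (Groth.Agent.Sga7.H331.Sec.co b ⊤ ≫ P.presheaf.germ ⊤ (genericPoint P) trivial).hom

theorem kap_eq {K' : Type u} [CommRing K'] (b : P ⟶ Spec (CommRingCat.of K')) (U : P.Opens) (hU : genericPoint P ∈ U) (x : K') :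
    kap b x = P.presheaf.germ U (genericPoint P) hU ((Groth.Agent.Sga7.H331.Sec.co b U).hom x) := by
  rw [← Groth.Agent.Sga7.H331.Sec.co_map b (le_top : U ≤ ⊤)]
  exact (P.presheaf.germ_res_apply _ _ _ _).symm

theorem kap_mem_O {K' : Type u} [CommRing K'] (b : P ⟶ Spec (CommRingCat.of K')) (w : P) (x : K') : kap b x ∈ O P w := by
  rw [kap_eq b ⊤ trivial]
  exact germ_mem_O (U := ⊤) trivial _ _

variable [Algebra K K'] {a : A ⟶ Spec (CommRingCat.of K)}
  {b : P ⟶ Spec (CommRingCat.of K')} {p : P ⟶ A}
  (H : IsPullback p b a (Spec.map (CommRingCat.ofHom (algebraMap K K')))) (hp : Dom p)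
  {Λ : Type*} (e : Module.Basis Λ K K')

include H

theorem exists_coord_open (V : A.Opens) (hV : IsAffineOpen V) (hη : genericPoint A ∈ V)
    (g : P.functionField) (hg : ∀ w ∈ p ⁻¹ᵁ V, g ∈ O P w) :
    ∃ c : Λ →₀ A.functionField, (∀ i, ∀ y ∈ V, c i ∈ O A y) ∧
      g = c.sum fun i x => kap b (e i) * sg p hp x := by
  have hη' : genericPoint P ∈ p ⁻¹ᵁ V := by
    change p (genericPoint P) ∈ V
    rw [hp]
    exact hη
  obtain ⟨s, rfl⟩ := exists_section (p ⁻¹ᵁ V) hη' g hg
  obtain ⟨c, rfl⟩ := exists_coord (Groth.Agent.Sga7.H331.Sec.isPushout_co a b H hV rfl) e s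
  let γ : Γ(A, V) →+* A.functionField := (A.presheaf.germ V (genericPoint A) hη).hom
  refine ⟨c.mapRange γ (map_zero γ), fun i y hy => ?_, ?_⟩
  · rw [Finsupp.mapRange_apply]
    exact germ_mem_O hy hη _
  · rw [Finsupp.sum_mapRange_index (fun i => by rw [map_zero, mul_zero]), Finsupp.sum,
      Finsupp.sum]
    erw [map_sum]
    refine Finset.sum_congr rfl fun i _ => ?_
    rw [kap_eq b (p ⁻¹ᵁ V) hη']
    erw [map_mul]
    congr 1
    have h1 := sg_germ p hp V hη hη' (c i)
    refine Eq.trans ?_ h1.symm
    rw [Scheme.Hom.app_eq_appLE]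

theorem indep (c : Λ →₀ A.functionField)
    (h0 : (c.sum fun i x => kap b (e i) * sg p hp x) = 0) : c = 0 := by
  obtain ⟨_, ⟨V, hV, rfl⟩, hη, -⟩ := A.isBasis_affineOpens.exists_subset_of_mem_open
    (Set.mem_univ (genericPoint A)) isOpen_univ
  have hη' : genericPoint P ∈ p ⁻¹ᵁ V := by
    change p (genericPoint P) ∈ V
    rw [hp]
    exact hη
  have hne : Nonempty V := ⟨⟨_, hη⟩⟩
  let _ : Algebra Γ(A, V) A.functionField := (A.presheaf.germ V (genericPoint A) hη).hom.toAlgebra
  have hfr : IsFractionRing Γ(A, V) A.functionField :=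
    functionField_isFractionRing_of_isAffineOpen A V hV
  refine eq_zero_of_sum_eq_zero (Groth.Agent.Sga7.H331.Sec.isPushout_co a b H hV rfl) e
    (F := A.functionField) (F' := P.functionField)
    (j' := (P.presheaf.germ (p ⁻¹ᵁ V) (genericPoint P) hη').hom)
    (germ_injective_of_isIntegral P (genericPoint P) hη') (θ := sg p hp) ?_ c ?_
  · ext x
    have h1 := sg_germ p hp V hη hη' x
    refine h1.trans ?_
    rw [Scheme.Hom.app_eq_appLE]
    rfl
  · rw [← h0]
    refine Finsupp.sum_congr fun i _ => ?_
    rw [kap_eq b (p ⁻¹ᵁ V) hη']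

/-- **Sections of `p^* D` are combinations of sections of `D`.** -/
theorem exists_sum {D : Dvs A} (hD : LP D) {f : P.functionField} (hf : f ∈ Sec (pl p hp D)) :
    ∃ c : Λ →₀ A.functionField, (∀ i, c i ∈ Sec D) ∧
      f = c.sum fun i x => kap b (e i) * sg p hp x := by
  have key : ∀ y : A, ∃ c : Λ →₀ A.functionField, (∀ i, Le D y (c i)) ∧
      f = c.sum fun i x => kap b (e i) * sg p hp x := by
    intro y
    obtain ⟨W, d, hyW, hd⟩ := hD y
    obtain ⟨_, ⟨V, hV, rfl⟩, hyV, hVW⟩ := A.isBasis_affineOpens.exists_subset_of_mem_open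
      hyW W.isOpen
    obtain ⟨c, hc, hcf⟩ := exists_coord_open H hp e V hV (genericPoint_mem hyV)
      (sg p hp ((d⁻¹ : A.functionFieldˣ) : A.functionField) * f) (fun w hw => by
        have h1 := (le_iff (pl_apply p hp D w d (hd _ (hVW hw)))).1 (hf w)
        rw [← map_inv] at h1
        exact h1)
    refine ⟨c.mapRange (fun x => (d : A.functionField) * x) (mul_zero _), fun i => ?_, ?_⟩
    · rw [Finsupp.mapRange_apply, le_iff (hd y hyW), ← mul_assoc, ← Units.val_mul, inv_mul_cancel,
        Units.val_one, one_mul]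
      exact hc i y hyV
    · rw [Finsupp.sum_mapRange_index (fun i => by rw [map_zero, mul_zero])]
      have h2 : f = sg p hp (d : A.functionField) *
          (sg p hp ((d⁻¹ : A.functionFieldˣ) : A.functionField) * f) := by
        rw [← mul_assoc, ← map_mul, ← Units.val_mul, mul_inv_cancel, Units.val_one, map_one, one_mul]
      conv_lhs => rw [h2, hcf, Finsupp.sum, Finset.mul_sum]
      rw [Finsupp.sum]
      refine Finset.sum_congr rfl fun i _ => ?_
      rw [map_mul]
      ring
  choose c hc hcf using key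
  let y₀ := genericPoint A
  refine ⟨c y₀, fun i y => ?_, hcf y₀⟩
  have h1 : c y₀ = c y := by
    rw [← sub_eq_zero]
    refine indep H hp e _ ?_
    rw [Finsupp.sum_sub_index, ← hcf, ← hcf, sub_self]
    intro i x x'
    rw [map_sub, mul_sub]
  rw [h1]
  exact hc y i

end Geom

end Groth.Agent.Sga7.H516.CovBC
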