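import Groth.Agent.Sga7.H730.Dv
import Mathlib.AlgebraicGeometry.Morphisms.Affine

/-!
# Sections of a family of local equations

`X` integral, `D` a family of local equations (`Dvs X`).
* `Le D x f`: `f` belongs to the lattice `O_x D_x` of the function field.
* `Gen D x f`: `f` generates it.
* `LP D`: `D` is locally given by one equation.
* `genOpen D f`: the open set where `f` generates; `isAffineOpen_add`: the `f` with `genOpen D f`
  affine form a group.
-/

set_option autoImplicit false
set_option linter.unusedSectionVars false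
universe u

open AlgebraicGeometry CategoryTheory CategoryTheory.Limits TopologicalSpace Opposite
open Groth.Agent.Dix.Center Groth.Agent.Grpsch.GrowthFF Groth.Agent.Sga7.H730.Dv

namespace Groth.Agent.Sga7.H516.CovDiv

variable {X : Scheme.{u}} [AlgebraicGeometry.IsIntegral X]

/-- `f` belongs to the lattice `O_x D_x`. -/
def Le (D : Dvs X) (x : X) (f : X.functionField) : Prop :=
  ∃ c : X.functionFieldˣ, D x = QuotientGroup.mk c ∧ ((c⁻¹ : X.functionFieldˣ) : X.functionField) * f ∈ O X x

/-- `f` generates the lattice `O_x D_x`. -/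
def Gen (D : Dvs X) (x : X) (f : X.functionField) : Prop :=
  ∃ c : X.functionFieldˣ, D x = QuotientGroup.mk c ∧ (c : X.functionField) = f

/-- `D` is locally given by one equation. -/
def LP (D : Dvs X) : Prop :=
  ∀ x : X, ∃ (W : X.Opens) (c : X.functionFieldˣ), x ∈ W ∧ ∀ y ∈ W, D y = QuotientGroup.mk c

theorem mk_eq_mk_iff {x : X} {c c' : X.functionFieldˣ} :
    (QuotientGroup.mk c : X.functionFieldˣ ⧸ UU X x) = QuotientGroup.mk c' ↔ c⁻¹ * c' ∈ UU X x :=
  QuotientGroup.eq

theorem le_iff {D : Dvs X} {x : X} {f : X.functionField} {c : X.functionFieldˣ}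
    (hc : D x = QuotientGroup.mk c) :
    Le D x f ↔ ((c⁻¹ : X.functionFieldˣ) : X.functionField) * f ∈ O X x := by
  constructor
  · rintro ⟨c', hc', h⟩
    have h1 : c⁻¹ * c' ∈ UU X x := by
      rw [← mk_eq_mk_iff, ← hc, ← hc']
    have h2 := (O X x).mul_mem h1.1 h
    rw [← mul_assoc, ← Units.val_mul] at h2
    rwa [mul_assoc, mul_inv_cancel, mul_one] at h2
  · intro h
    exact ⟨c, hc, h⟩

theorem gen_iff {D : Dvs X} {x : X} {f : X.functionField} {c : X.functionFieldˣ}
    (hc : D x = QuotientGroup.mk c) : Gen D x f ↔ ∃ u ∈ UU X x, f = (c : X.functionField) * (u : X.functionFieldˣ) := by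
  constructor
  · rintro ⟨c', hc', rfl⟩
    refine ⟨c⁻¹ * c', ?_, ?_⟩
    · rw [← mk_eq_mk_iff, ← hc, ← hc']
    · rw [← Units.val_mul, mul_inv_cancel_left]
  · rintro ⟨u, hu, rfl⟩
    refine ⟨c * u, ?_, Units.val_mul _ _⟩
    rw [hc, mk_eq_mk_iff, inv_mul_cancel_left]
    exact hu

theorem Gen.le {D : Dvs X} {x : X} {f : X.functionField} (h : Gen D x f) : Le D x f := by
  obtain ⟨c, hc, rfl⟩ := h
  refine ⟨c, hc, ?_⟩
  rw [← Units.val_mul, inv_mul_cancel, Units.val_one]
  exact (O X x).one_mem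

theorem Gen.ne_zero {D : Dvs X} {x : X} {f : X.functionField} (h : Gen D x f) : f ≠ 0 := by
  obtain ⟨c, hc, rfl⟩ := h
  exact c.ne_zero

theorem Gen.eq_mk {D : Dvs X} {x : X} {c : X.functionFieldˣ} (h : Gen D x c) :
    D x = QuotientGroup.mk c := by
  obtain ⟨c', hc, h⟩ := h
  rw [hc]
  congr 1
  exact Units.ext h

theorem Gen.le_iff {D : Dvs X} {x : X} {f g : X.functionField} (h : Gen D x f) :
    Le D x g ↔ g / f ∈ O X x := by
  obtain ⟨c, hc, rfl⟩ := h
  rw [CovDiv.le_iff hc, div_eq_inv_mul, Units.val_inv_eq_inv_val]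

theorem Gen.gen_iff {D : Dvs X} {x : X} {f g : X.functionField} (h : Gen D x f) (hg : Le D x g) :
    Gen D x g ↔ g ≠ 0 ∧ f / g ∈ O X x := by
  constructor
  · intro h'
    exact ⟨h'.ne_zero, h'.le_iff.1 h.le⟩
  · rintro ⟨hg0, h1⟩
    have h2 := h.le_iff.1 hg
    obtain ⟨c, hc, rfl⟩ := h
    refine (CovDiv.gen_iff hc).2 ⟨(Units.mk0 g hg0) * c⁻¹, ⟨?_, ?_⟩, ?_⟩
    · rw [Units.val_mul, Units.val_mk0, Units.val_inv_eq_inv_val, ← div_eq_mul_inv]
      exact h2
    · rw [mul_inv, inv_inv, Units.val_mul, Units.val_inv_eq_inv_val, Units.val_mk0,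
        ← div_eq_inv_mul]
      exact h1
    · rw [Units.val_mul, Units.val_mk0, Units.val_inv_eq_inv_val]
      field_simp

theorem Le.add {D : Dvs X} {x : X} {f g : X.functionField} (h : Le D x f) (h' : Le D x g) :
    Le D x (f + g) := by
  obtain ⟨c, hc, h⟩ := h
  rw [le_iff hc] at h' ⊢
  rw [mul_add]
  exact (O X x).add_mem h h'

theorem Le.neg {D : Dvs X} {x : X} {f : X.functionField} (h : Le D x f) : Le D x (-f) := by
  obtain ⟨c, hc, h⟩ := h
  rw [le_iff hc]
  rw [mul_neg]
  exact (O X x).neg_mem h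

theorem le_zero (D : Dvs X) (x : X) : Le D x 0 := by
  obtain ⟨c, hc⟩ := QuotientGroup.mk_surjective (D x)
  refine ⟨c, hc.symm, ?_⟩
  rw [mul_zero]
  exact (O X x).zero_mem

theorem Le.mul {D : Dvs X} {x : X} {f a : X.functionField} (h : Le D x f) (ha : a ∈ O X x) :
    Le D x (a * f) := by
  obtain ⟨c, hc, h⟩ := h
  rw [le_iff hc, mul_left_comm]
  exact (O X x).mul_mem ha h

theorem exists_gen (D : Dvs X) (x : X) : ∃ c : X.functionFieldˣ, Gen D x c := by
  obtain ⟨c, hc⟩ := QuotientGroup.mk_surjective (D x)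
  exact ⟨c, c, hc.symm, rfl⟩

/-- The sections of `D`. -/
noncomputable def Sec (D : Dvs X) : AddSubgroup X.functionField where
  carrier := {f | ∀ x, Le D x f}
  add_mem' ha hb x := (ha x).add (hb x)
  zero_mem' x := le_zero D x
  neg_mem' ha x := (ha x).neg

theorem mem_Sec {D : Dvs X} {f : X.functionField} : f ∈ Sec D ↔ ∀ x, Le D x f := Iff.rfl

/-- the elements of the function field which are units at `x` form an open condition -/
theorem exists_open_of_mem_O {x : X} {f : X.functionField} (h : f ∈ O X x) :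
    ∃ W : X.Opens, x ∈ W ∧ ∀ y ∈ W, f ∈ O X y := by
  obtain ⟨a, rfl⟩ := h
  obtain ⟨V, hxV, s, rfl⟩ := X.presheaf.exists_germ_eq a
  refine ⟨V, hxV, fun y hy => ?_⟩
  rw [toK_germ hxV s (genericPoint_mem hxV), ← toK_germ hy s (genericPoint_mem hxV)]
  exact toK_mem_O _

theorem exists_open_of_mem_UU {x : X} {f : X.functionFieldˣ} (h : f ∈ UU X x) :
    ∃ W : X.Opens, x ∈ W ∧ ∀ y ∈ W, f ∈ UU X y := by
  obtain ⟨W, hW, h1⟩ := exists_open_of_mem_O h.1
  obtain ⟨W', hW', h2⟩ := exists_open_of_mem_O h.2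
  exact ⟨W ⊓ W', ⟨hW, hW'⟩, fun y hy => ⟨h1 y hy.1, h2 y hy.2⟩⟩

theorem isOpen_gen {D : Dvs X} (hD : LP D) (f : X.functionField) : IsOpen {x | Gen D x f} := by
  rw [isOpen_iff_forall_mem_open]
  intro x hx
  obtain ⟨W, c, hxW, hc⟩ := hD x
  obtain ⟨u, hu, rfl⟩ := (gen_iff (hc x hxW)).1 hx
  obtain ⟨W', hxW', hu'⟩ := exists_open_of_mem_UU hu
  refine ⟨W ⊓ W', fun y hy => ?_, (W ⊓ W').isOpen, ⟨hxW, hxW'⟩⟩
  exact (gen_iff (hc y hy.1)).2 ⟨u, hu' y hy.2, rfl⟩

/-- The open set where `f` generates. -/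
def genOpen (D : Dvs X) (hD : LP D) (f : X.functionField) : X.Opens :=
  ⟨{x | Gen D x f}, isOpen_gen hD f⟩

theorem mem_genOpen {D : Dvs X} {hD : LP D} {f : X.functionField} {x : X} :
    x ∈ genOpen D hD f ↔ Gen D x f := Iff.rfl

theorem genOpen_zero {D : Dvs X} (hD : LP D) : genOpen D hD 0 = ⊥ := by
  ext x
  constructor
  · intro h
    exact (h.ne_zero rfl).elim
  · intro h
    exact h.elim

/-- A section over `U` is a unit at `x ∈ U` iff its inverse is regular. -/
theorem mem_basicOpen_iff {U : X.Opens} (a : Γ(X, U)) {x : X} (hx : x ∈ U)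
    (ha : X.presheaf.germ U (genericPoint X) (genericPoint_mem hx) a ≠ 0) :
    x ∈ X.basicOpen a ↔ (X.presheaf.germ U (genericPoint X) (genericPoint_mem hx) a)⁻¹ ∈ O X x := by
  rw [X.mem_basicOpen a x hx]
  have h1 := toK_germ hx a (genericPoint_mem hx)
  rw [isUnit_iff (by rw [h1]; exact ha), h1]

/-- The intersection of two loci is affine if one of them is. -/
theorem isAffineOpen_inf {D : Dvs X} (hD : LP D) {f g : X.functionField} (hg : g ∈ Sec D)
    (h : IsAffineOpen (genOpen D hD f)) : IsAffineOpen (genOpen D hD f ⊓ genOpen D hD g) := by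
  by_cases hg0 : g = 0
  · rw [hg0, genOpen_zero, inf_bot_eq]
    exact isAffineOpen_bot X
  by_cases hη : genericPoint X ∈ genOpen D hD f
  · obtain ⟨a, ha⟩ := exists_section (genOpen D hD f) hη (g / f) (fun x hx =>
      (mem_genOpen.1 hx).le_iff.1 (hg x))
    have hf0 : f ≠ 0 := (mem_genOpen.1 hη).ne_zero
    have h1 : genOpen D hD f ⊓ genOpen D hD g = X.basicOpen a := by
      ext x
      constructor
      · rintro ⟨hx, hx'⟩
        rw [SetLike.mem_coe, mem_basicOpen_iff a hx (by rw [ha]; exact div_ne_zero hg0 hf0), ha, inv_div]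
        exact (Gen.le_iff hx').1 (Gen.le hx)
      · intro hx
        have hx1 : x ∈ genOpen D hD f := X.basicOpen_le a hx
        refine ⟨hx1, ?_⟩
        rw [SetLike.mem_coe, mem_basicOpen_iff a hx1 (by rw [ha]; exact div_ne_zero hg0 hf0), ha, inv_div] at hx
        exact (Gen.gen_iff hx1 (hg x)).2 ⟨hg0, hx⟩
    rw [h1]
    exact h.basicOpen a
  · have h1 : genOpen D hD f = ⊥ := by
      ext x
      constructor
      · intro hx
        exact hη (genericPoint_mem hx)
      · intro hx
        exact hx.elim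
    rw [h1, bot_inf_eq]
    exact isAffineOpen_bot X

/-- **The `f` with affine locus form a group.** -/
theorem isAffineOpen_add {D : Dvs X} (hD : LP D) {f g : X.functionField} (hf : f ∈ Sec D)
    (hg : g ∈ Sec D) (h : IsAffineOpen (genOpen D hD f)) (h' : IsAffineOpen (genOpen D hD g)) :
    IsAffineOpen (genOpen D hD (f + g)) := by
  by_cases hη : genericPoint X ∈ genOpen D hD (f + g)
  · have h0 : f + g ≠ 0 := (mem_genOpen.1 hη).ne_zero
    have key : ∀ k : X.functionField, k ∈ Sec D → IsAffineOpen (genOpen D hD k) →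
        ∀ a : Γ(X, genOpen D hD (f + g)), X.presheaf.germ _ (genericPoint X) hη a = k / (f + g) →
        IsAffineOpen (X.basicOpen a) := by
      intro k hk hka a ha
      by_cases hk0 : k = 0
      · have h1 : a = 0 := by
          apply germ_injective_of_isIntegral X (genericPoint X) hη
          rw [ha, hk0, zero_div, map_zero]
        rw [h1, Scheme.basicOpen_zero]
        exact isAffineOpen_bot X
      · have h1 : X.basicOpen a = genOpen D hD k ⊓ genOpen D hD (f + g) := by
          ext x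
          constructor
          · intro hx
            have hx1 : x ∈ genOpen D hD (f + g) := X.basicOpen_le a hx
            refine ⟨?_, hx1⟩
            rw [SetLike.mem_coe, mem_basicOpen_iff a hx1 (by rw [ha]; exact div_ne_zero hk0 h0), ha,
              inv_div] at hx
            exact (Gen.gen_iff hx1 (hk x)).2 ⟨hk0, hx⟩
          · rintro ⟨hx, hx'⟩
            rw [SetLike.mem_coe, mem_basicOpen_iff a hx' (by rw [ha]; exact div_ne_zero hk0 h0), ha,
              inv_div]
            exact (Gen.le_iff hx).1 (Gen.le hx')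
        rw [h1]
        exact isAffineOpen_inf hD (AddSubgroup.add_mem _ hf hg) hka
    obtain ⟨a, ha⟩ := exists_section (genOpen D hD (f + g)) hη (f / (f + g)) (fun x hx =>
      (mem_genOpen.1 hx).le_iff.1 (hf x))
    obtain ⟨b, hb⟩ := exists_section (genOpen D hD (f + g)) hη (g / (f + g)) (fun x hx =>
      (mem_genOpen.1 hx).le_iff.1 (hg x))
    have hab : a + b = 1 := by
      apply germ_injective_of_isIntegral X (genericPoint X) hη
      rw [map_add, ha, hb, map_one, ← add_div, div_self h0]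
    refine isAffineOpen_of_isAffineOpen_basicOpen _ {a, b} ?_ ?_
    · rw [Ideal.eq_top_iff_one, ← hab]
      exact Ideal.add_mem _ (Ideal.subset_span (by simp)) (Ideal.subset_span (by simp))
    · rintro i (rfl | rfl)
      · exact key f hf h _ ha
      · exact key g hg h' _ hb
  · have h1 : genOpen D hD (f + g) = ⊥ := by
      ext x
      constructor
      · intro hx
        exact hη (genericPoint_mem hx)
      · intro hx
        exact hx.elim
    rw [h1]
    exact isAffineOpen_bot X

end Groth.Agent.Sga7.H516.CovDiv
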