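import Groth.Agent.Sga7.H516.CovPull
import Groth.Agent.Sga7.H331.Glue

/-!
# Sections on the generic fibre, up to a power of the uniformizer

`R'` a discrete valuation ring with uniformizer `π` and fraction field `K'`, `x : X ⟶ Spec R'`, `X`
integral, `j : P ⟶ X` the generic fibre, `D` a locally principal family of local equations on `X`.

* `exists_pow_mem`: if `f` is a section of `j^* D` then `π^n f` is a section of `D` for some `n`.
* `genOpen_mul`: the locus of `π f` is the locus of `f` on the generic fibre.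
-/

set_option autoImplicit false
set_option linter.unusedSectionVars false
universe u

open AlgebraicGeometry CategoryTheory CategoryTheory.Limits TopologicalSpace Opposite
open Groth.Agent.Dix.Center Groth.Agent.Grpsch.GrowthFF Groth.Agent.Sga7.H730.Dv

namespace Groth.Agent.Sga7.H516.CovExt

open CovDiv CovBC CovPull

theorem mem_O_genericPoint {X : Scheme.{u}} [AlgebraicGeometry.IsIntegral X]
    (g : X.functionField) : g ∈ O X (genericPoint X) := by
  obtain ⟨U, hU, s, rfl⟩ := exists_germ g
  exact germ_mem_O hU hU s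

section OpenImm

variable {X Y : Scheme.{u}} [AlgebraicGeometry.IsIntegral X] [AlgebraicGeometry.IsIntegral Y]

theorem mem_O_of_sg (j : X ⟶ Y) [IsOpenImmersion j] (h : Dom j) {w : X} {g : Y.functionField}
    (hg : sg j h g ∈ O X w) : g ∈ O Y (j w) := by
  obtain ⟨a, ha⟩ := hg
  obtain ⟨b, hb⟩ := (ConcreteCategory.bijective_of_isIso (j.stalkMap w)).2 a
  have h1 : sg j h (toK Y (j w) b) = sg j h g := by
    rw [sg_toK, ← ha]
    exact congrArg _ hb
  rw [← (sg j h).injective h1]
  exact toK_mem_O b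

theorem le_of_sg (j : X ⟶ Y) [IsOpenImmersion j] (h : Dom j) {D : Dvs Y} {w : X}
    {g : Y.functionField} (hg : Le (pl j h D) w (sg j h g)) : Le D (j w) g := by
  obtain ⟨c, hc⟩ := exists_gen D (j w)
  have h1 := (gen_pl j h hc).le_iff.1 hg
  rw [← map_div₀] at h1
  exact hc.le_iff.2 (mem_O_of_sg j h h1)

end OpenImm

variable {R' K' : Type u} [CommRing R'] [IsDomain R'] [IsDiscreteValuationRing R'] [Field K']
  [Algebra R' K'] [IsFractionRing R' K'] {X P : Scheme.{u}}
  [AlgebraicGeometry.IsIntegral X] [AlgebraicGeometry.IsIntegral P]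
  {x : X ⟶ Spec (CommRingCat.of R')} {b : P ⟶ Spec (CommRingCat.of K')} {j : P ⟶ X}
  (H : IsPullback j b x (Spec.map (CommRingCat.ofHom (algebraMap R' K')))) (hj : Dom j)
  {π : R'} (hπ : Irreducible π)

include H

theorem isOpenImmersion : IsOpenImmersion j :=
  MorphismProperty.of_isPullback (P := @IsOpenImmersion) H.flip
    (Groth.Agent.Sga7.H331.isOpenImmersion_Spec R' K')

include hπ

/-- The constant `π` is invertible at the points of the generic fibre. -/
theorem inv_mem_of_mem_range {y : X} (hy : y ∈ Set.range j) : (kap x π)⁻¹ ∈ O X y := by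
  have := isOpenImmersion H
  obtain ⟨w, rfl⟩ := hy
  have hj : Dom j := by
    have h2 := genericPoint_eq_of_isOpenImmersion j
    exact h2
  apply mem_O_of_sg j hj
  rw [map_inv₀, sg_kap j hj x b (algebraMap R' K') H.w, ← map_inv₀]
  exact kap_mem_O b w _

/-- The constant `π` is not invertible at the points of the special fibre. -/
theorem mem_range_of_inv_mem {y : X} (hy : (kap x π)⁻¹ ∈ O X y) : y ∈ Set.range j := by
  -- `π` is a unit at `y`
  have h0 : kap x π = toK X y (X.presheaf.germ ⊤ y trivial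
      ((Groth.Agent.Sga7.H331.Sec.co x ⊤).hom π)) := by
    rw [kap_eq x ⊤ trivial, toK_germ (U := ⊤) trivial _ trivial]
  by_cases hne : kap x π = 0
  · -- impossible: `P` is nonempty
    exfalso
    have := isOpenImmersion H
    have hj : Dom j := genericPoint_eq_of_isOpenImmersion j
    have h1 : kap b (algebraMap R' K' π) = 0 := by
      rw [← sg_kap j hj x b (algebraMap R' K') H.w, hne, map_zero]
    rw [map_eq_zero] at h1
    exact hπ.ne_zero ((IsFractionRing.to_map_eq_zero_iff).1 h1)
  have h1 : IsUnit (X.presheaf.germ ⊤ y trivial ((Groth.Agent.Sga7.H331.Sec.co x ⊤).hom π)) := by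
    rw [isUnit_iff (by rwa [← h0]), ← h0]
    exact hy
  -- `x y` is the generic point
  have h2 : x y ∈ Set.range (Spec.map (CommRingCat.ofHom (algebraMap R' K'))) := by
    have := Groth.Agent.Sga7.H331.isLocalizationAway R' K' π hπ
    have hr : Set.range (Spec.map (CommRingCat.ofHom (algebraMap R' K'))) =
        (PrimeSpectrum.basicOpen π : Set (PrimeSpectrum R')) :=
      PrimeSpectrum.localization_away_comap_range K' π
    rw [hr]
    change x y ∈ PrimeSpectrum.basicOpen π
    have h3 : x ⁻¹ᵁ (PrimeSpectrum.basicOpen π) =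
        X.basicOpen ((Groth.Agent.Sga7.H331.Sec.co x ⊤).hom π) := by
      have h4 : (PrimeSpectrum.basicOpen π : (Spec (CommRingCat.of R')).Opens) =
          (Spec (CommRingCat.of R')).basicOpen ((Scheme.ΓSpecIso (CommRingCat.of R')).inv π) :=
        (basicOpen_eq_of_affine' _).symm ▸ by simp
      rw [h4, Scheme.preimage_basicOpen]
      congr 1
      rw [Groth.Agent.Sga7.H331.Sec.co, Scheme.Hom.app_eq_appLE]
      rfl
    have h5 : y ∈ X.basicOpen ((Groth.Agent.Sga7.H331.Sec.co x ⊤).hom π) :=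
      (X.mem_basicOpen (U := ⊤) _ y trivial).2 h1
    rw [← h3] at h5
    exact h5
  obtain ⟨z, hz⟩ := h2
  obtain ⟨w, hw, -⟩ := Scheme.exists_preimage_of_isPullback H y z hz.symm
  exact ⟨w, hw⟩

theorem mem_range_iff (y : X) : y ∈ Set.range j ↔ (kap x π)⁻¹ ∈ O X y :=
  ⟨inv_mem_of_mem_range H hπ, mem_range_of_inv_mem H hπ⟩

theorem kap_ne_zero : kap x π ≠ 0 := by
  intro hne
  have := isOpenImmersion H
  have hj : Dom j := genericPoint_eq_of_isOpenImmersion j
  have h1 : kap b (algebraMap R' K' π) = 0 := by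
    rw [← sg_kap j hj x b (algebraMap R' K') H.w, hne, map_zero]
  rw [map_eq_zero] at h1
  exact hπ.ne_zero ((IsFractionRing.to_map_eq_zero_iff).1 h1)

/-- A function which is regular on the generic fibre of an affine open extends after
multiplication by a power of `π`. -/
theorem exists_pow_mem_affine {W : X.Opens} (hW : IsAffineOpen W) (hη : genericPoint X ∈ W)
    {g : X.functionField} (hg : ∀ y ∈ W, y ∈ Set.range j → g ∈ O X y) :
    ∃ n : ℕ, ∀ y ∈ W, kap x π ^ n * g ∈ O X y := by
  let f : Γ(X, W) := (Groth.Agent.Sga7.H331.Sec.co x W).hom π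
  have hf : X.presheaf.germ W (genericPoint X) hη f = kap x π := (kap_eq x W hη π).symm
  have hmem : ∀ y ∈ X.basicOpen f, y ∈ Set.range j := by
    intro y hy
    have hyW : y ∈ W := X.basicOpen_le f hy
    rw [mem_range_iff H hπ]
    rw [mem_basicOpen_iff f hyW (by rw [hf]; exact kap_ne_zero H hπ), hf] at hy
    exact hy
  have hηf : genericPoint X ∈ X.basicOpen f := by
    rw [mem_basicOpen_iff f hη (by rw [hf]; exact kap_ne_zero H hπ), hf]
    exact mem_O_genericPoint _
  obtain ⟨s, hs⟩ := exists_section (X.basicOpen f) hηf g (fun y hy =>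
    hg y (X.basicOpen_le f hy) (hmem y hy))
  have hloc := hW.isLocalization_basicOpen f
  obtain ⟨n, t, ht⟩ := IsLocalization.Away.surj f s
  refine ⟨n, fun y hy => ?_⟩
  have h1 : kap x π ^ n * g = X.presheaf.germ W (genericPoint X) hη t := by
    have h2 := congrArg (X.presheaf.germ (X.basicOpen f) (genericPoint X) hηf) ht
    rw [map_mul, map_pow, hs] at h2
    have h3 : ∀ r : Γ(X, W), X.presheaf.germ (X.basicOpen f) (genericPoint X) hηf
        (algebraMap Γ(X, W) Γ(X, X.basicOpen f) r) = X.presheaf.germ W (genericPoint X) hη r :=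
      fun r => X.presheaf.germ_res_apply _ _ _ _
    rw [h3, h3, hf] at h2
    rw [mul_comm]
    exact h2
  rw [h1]
  exact germ_mem_O hy hη t

/-- **Sections of `j^* D` extend up to a power of `π`.** -/
theorem exists_pow_mem [CompactSpace X] {D : Dvs X} (hD : LP D) {g : X.functionField}
    (hg : sg j hj g ∈ Sec (pl j hj D)) : ∃ n : ℕ, kap x π ^ n * g ∈ Sec D := by
  have := isOpenImmersion H
  have key : ∀ y : X, ∃ (W : X.Opens) (n : ℕ), y ∈ W ∧ ∀ z ∈ W, Le D z (kap x π ^ n * g) := by
    intro y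
    obtain ⟨W, c, hyW, hc⟩ := hD y
    obtain ⟨_, ⟨V, hV, rfl⟩, hyV, hVW⟩ := X.isBasis_affineOpens.exists_subset_of_mem_open
      hyW W.isOpen
    obtain ⟨n, hn⟩ := exists_pow_mem_affine H hπ hV (genericPoint_mem hyV)
      (g := ((c⁻¹ : X.functionFieldˣ) : X.functionField) * g) (fun z hz hz' => by
        obtain ⟨w, rfl⟩ := hz'
        exact (le_iff (hc _ (hVW hz))).1 (le_of_sg j hj (hg w)))
    refine ⟨V, n, hyV, fun z hz => ?_⟩
    rw [le_iff (hc z (hVW hz)), mul_left_comm]
    exact hn z hz
  choose W n hyW hn using key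
  obtain ⟨t, ht⟩ := CompactSpace.elim_nhds_subcover (fun y => (W y : Set X))
    (fun y => (W y).isOpen.mem_nhds (hyW y))
  refine ⟨t.sup n, fun z => ?_⟩
  have hz : z ∈ ⋃ y ∈ t, (W y : Set X) := by
    have h1 : z ∈ (⊤ : Set X) := trivial
    rwa [← ht] at h1
  simp only [Set.mem_iUnion] at hz
  obtain ⟨y, hy, hzy⟩ := hz
  obtain ⟨k, hk⟩ := Nat.exists_eq_add_of_le' (Finset.le_sup (f := n) hy)
  rw [hk, pow_add, mul_assoc]
  exact (hn y z hzy).mul ((O X z).pow_mem (kap_mem_O x z π) k)

/-- The locus of `π f` is the locus of `f` on the generic fibre. -/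
theorem genOpen_mul {D : Dvs X} (hD : LP D) (hDP : LP (pl j hj D)) {g : X.functionField}
    (hg : g ∈ Sec D) :
    (genOpen D hD (kap x π * g) : Set X) = j '' (genOpen (pl j hj D) hDP (sg j hj g) : Set P) := by
  have := isOpenImmersion H
  have h0 : ∀ w : P, Gen (pl j hj D) w (sg j hj (kap x π * g)) ↔
      Gen (pl j hj D) w (sg j hj g) := by
    intro w
    have h1 : sg j hj (kap x π) = kap b (algebraMap R' K' π) :=
      sg_kap j hj x b (algebraMap R' K') H.w π
    have h2 : algebraMap R' K' π ≠ 0 := by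
      rw [Ne, IsFractionRing.to_map_eq_zero_iff]
      exact hπ.ne_zero
    obtain ⟨c, hc⟩ := QuotientGroup.mk_surjective (pl j hj D w)
    have h3 : kap b (algebraMap R' K' π) ≠ 0 := by
      rw [map_ne_zero]
      exact h2
    have h4 : Units.mk0 _ h3 ∈ UU P w := by
      refine ⟨kap_mem_O b w _, ?_⟩
      rw [Units.val_inv_eq_inv_val, Units.val_mk0, ← map_inv₀]
      exact kap_mem_O b w _
    rw [map_mul, h1, gen_iff hc.symm, gen_iff hc.symm]
    constructor
    · rintro ⟨u, hu, h5⟩
      refine ⟨(Units.mk0 _ h3)⁻¹ * u, (UU P w).mul_mem ((UU P w).inv_mem h4) hu, ?_⟩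
      rw [Units.val_mul, Units.val_inv_eq_inv_val, Units.val_mk0, mul_left_comm, ← h5,
        inv_mul_cancel_left₀ h3]
    · rintro ⟨u, hu, h5⟩
      refine ⟨(Units.mk0 _ h3) * u, (UU P w).mul_mem h4 hu, ?_⟩
      rw [Units.val_mul, Units.val_mk0, h5, mul_left_comm]
  have hle : ∀ y, Le D y (kap x π * g) := fun y => (hg y).mul (kap_mem_O x y π)
  ext y
  constructor
  · intro hy
    have hy' : Gen D y (kap x π * g) := hy
    have h1 : y ∈ Set.range j := by
      rw [mem_range_iff H hπ]
      have h2 := hy'.le_iff.1 (hg y)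
      have h3 : g ≠ 0 := right_ne_zero_of_mul hy'.ne_zero
      have h4 : g / (kap x π * g) = (kap x π)⁻¹ := by
        have := kap_ne_zero H hπ
        field_simp
      rwa [h4] at h2
    obtain ⟨w, rfl⟩ := h1
    exact ⟨w, (h0 w).1 ((gen_pl_iff j hj (hle _)).2 hy'), rfl⟩
  · rintro ⟨w, hw, rfl⟩
    exact (gen_pl_iff j hj (hle _)).1 ((h0 w).2 hw)

end Groth.Agent.Sga7.H516.CovExt
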