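import Groth.Agent.Sga7.H516.CovBC

/-!
# Pull back of sections of a divisor
-/

set_option autoImplicit false
set_option linter.unusedSectionVars false
universe u

open AlgebraicGeometry CategoryTheory CategoryTheory.Limits TopologicalSpace Opposite
open Groth.Agent.Dix.Center Groth.Agent.Grpsch.GrowthFF Groth.Agent.Sga7.H730.Dv

namespace Groth.Agent.Sga7.H516.CovPull

open CovDiv CovBC

variable {X Y : Scheme.{u}} [AlgebraicGeometry.IsIntegral X] [AlgebraicGeometry.IsIntegral Y]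

theorem sg_surjective (f : X ⟶ Y) [IsOpenImmersion f] (h : Dom f) :
    Function.Surjective (sg f h) := by
  intro g
  obtain ⟨U, hU, s, rfl⟩ := exists_germ g
  have hU' : genericPoint Y ∈ f ''ᵁ U := ⟨genericPoint X, hU, h⟩
  have h1 : f ⁻¹ᵁ (f ''ᵁ U) = U := f.preimage_image_eq U
  refine ⟨Y.presheaf.germ (f ''ᵁ U) (genericPoint Y) hU' ((f.appIso U).inv s), ?_⟩
  have hU'' : genericPoint X ∈ f ⁻¹ᵁ (f ''ᵁ U) := by rw [h1]; exact hU
  rw [sg_germ f h (f ''ᵁ U) hU' hU'']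
  have h2 : (f.app (f ''ᵁ U)) ((f.appIso U).inv s) =
      X.presheaf.map (homOfLE h1.le).op s := by
    have := Scheme.Hom.appIso_inv_app f U
    have h3 := congrArg (fun t => t s) (congrArg CommRingCat.Hom.hom this)
    exact h3
  rw [h2]
  exact X.presheaf.germ_res_apply _ _ _ _

theorem le_pl (f : X ⟶ Y) (h : Dom f) {D : Dvs Y} {x : X} {g : Y.functionField}
    (hg : Le D (f x) g) : Le (pl f h D) x (sg f h g) := by
  obtain ⟨c, hc, h1⟩ := hg
  rw [le_iff (pl_apply f h D x c hc), ← map_inv, coe_sgU, ← map_mul]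
  exact sg_mem_O f h h1

theorem gen_pl (f : X ⟶ Y) (h : Dom f) {D : Dvs Y} {x : X} {g : Y.functionField}
    (hg : Gen D (f x) g) : Gen (pl f h D) x (sg f h g) := by
  obtain ⟨c, hc, rfl⟩ := hg
  exact ⟨sgU f h c, pl_apply f h D x c hc, rfl⟩

theorem inv_mem_O_of_sg (f : X ⟶ Y) (h : Dom f) {x : X} {g : Y.functionField}
    (hg : g ∈ O Y (f x)) (hi : (sg f h g)⁻¹ ∈ O X x) (h0 : g ≠ 0) : g⁻¹ ∈ O Y (f x) := by
  obtain ⟨a, rfl⟩ := hg
  rw [← isUnit_iff h0]
  rw [sg_toK] at hi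
  have h1 : toK X x (f.stalkMap x a) ≠ 0 := by
    rw [← sg_toK f h]
    exact (map_ne_zero _).2 h0
  have h2 : IsUnit (f.stalkMap x a) := (isUnit_iff h1).2 hi
  exact isUnit_of_map_unit (f.stalkMap x).hom a h2

theorem gen_pl_iff (f : X ⟶ Y) (h : Dom f) {D : Dvs Y} {x : X} {g : Y.functionField}
    (hg : Le D (f x) g) : Gen (pl f h D) x (sg f h g) ↔ Gen D (f x) g := by
  refine ⟨fun h' => ?_, gen_pl f h⟩
  obtain ⟨c, hc⟩ := exists_gen D (f x)
  have h1 : Gen (pl f h D) x (sg f h (c : Y.functionField)) := gen_pl f h hc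
  have h2 := (h1.gen_iff (le_pl f h hg)).1 h'
  have h3 : g ≠ 0 := fun h0 => h2.1 (by rw [h0, map_zero])
  refine (hc.gen_iff hg).2 ⟨h3, ?_⟩
  have h4 := hc.le_iff.1 hg
  rw [← inv_div]
  refine inv_mem_O_of_sg f h h4 ?_ (div_ne_zero h3 c.ne_zero)
  rw [map_div₀, inv_div]
  exact h2.2

theorem sec_pl (f : X ⟶ Y) (h : Dom f) {D : Dvs Y} {g : Y.functionField} (hg : g ∈ Sec D) :
    sg f h g ∈ Sec (pl f h D) :=
  fun x => le_pl f h (hg (f x))

/-- Elements which do not generate at `x`. -/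
theorem not_gen_add {D : Dvs X} {x : X} {f g : X.functionField} (hf : Le D x f) (hg : Le D x g)
    (h : ¬ Gen D x f) (h' : ¬ Gen D x g) : ¬ Gen D x (f + g) := by
  obtain ⟨c, hc⟩ := exists_gen D x
  by_cases hf0 : f = 0
  · rwa [hf0, zero_add]
  by_cases hg0 : g = 0
  · rwa [hg0, add_zero]
  obtain ⟨a, ha⟩ := hc.le_iff.1 hf
  obtain ⟨b, hb⟩ := hc.le_iff.1 hg
  rw [hc.gen_iff hf] at h
  rw [hc.gen_iff hg] at h'
  rw [hc.gen_iff (hf.add hg)]
  have key : ∀ (k : X.functionField) (d : X.presheaf.stalk x), toK X x d = k / c → k ≠ 0 →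
      (IsUnit d ↔ (c : X.functionField) / k ∈ O X x) := by
    intro k d hd hk
    rw [isUnit_iff (by rw [hd]; exact div_ne_zero hk c.ne_zero), hd, inv_div]
  have ha' : ¬ IsUnit a := fun hu => h ⟨hf0, (key f a ha hf0).1 hu⟩
  have hb' : ¬ IsUnit b := fun hu => h' ⟨hg0, (key g b hb hg0).1 hu⟩
  rintro ⟨h1, h2⟩
  have h3 : IsUnit (a + b) := (key (f + g) (a + b) (by rw [map_add, ha, hb, add_div]) h1).2 h2
  exact (IsLocalRing.isUnit_or_isUnit_of_isUnit_add h3).elim ha' hb'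

theorem not_gen_mul {D : Dvs X} {x : X} {f a : X.functionField} (hf : Le D x f)
    (h : ¬ Gen D x f) (ha : a ∈ O X x) : ¬ Gen D x (a * f) := by
  intro h1
  apply h
  obtain ⟨c, hc⟩ := exists_gen D x
  have h2 := (hc.gen_iff (hf.mul ha)).1 h1
  refine (hc.gen_iff hf).2 ⟨right_ne_zero_of_mul h2.1, ?_⟩
  have h3 := (O X x).mul_mem ha h2.2
  have h4 : a ≠ 0 := left_ne_zero_of_mul h2.1
  have h5 : a * ((c : X.functionField) / (a * f)) = c / f := by
    field_simp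
  rwa [h5] at h3

/-- The constants are natural. -/
theorem sg_kap {S T : Type u} [CommRing S] [CommRing T] (f : X ⟶ Y) (h : Dom f)
    (q : Y ⟶ Spec (CommRingCat.of S)) (q' : X ⟶ Spec (CommRingCat.of T)) (φ : S →+* T)
    (e : f ≫ q = q' ≫ Spec.map (CommRingCat.ofHom φ)) (s : S) :
    sg f h (kap q s) = kap q' (φ s) := by
  have hX : genericPoint X ∈ f ⁻¹ᵁ (⊤ : Y.Opens) := trivial
  rw [kap_eq q ⊤ trivial, sg_germ f h ⊤ trivial hX, kap_eq q' (f ⁻¹ᵁ ⊤) hX]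
  congr 1
  have h1 := Groth.Agent.Sga7.H331.Sec.co_appLE q q' e (V := ⊤) (V' := f ⁻¹ᵁ ⊤) le_rfl
  have h2 := congrArg (fun t => t s) (congrArg CommRingCat.Hom.hom h1)
  rw [Scheme.Hom.app_eq_appLE]
  exact h2

end Groth.Agent.Sga7.H516.CovPull
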