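import Mathlib.RingTheory.DiscreteValuationRing.Basic
import Mathlib.LinearAlgebra.FreeModule.PID
import Mathlib.LinearAlgebra.Dimension.StrongRankCondition
import Mathlib.LinearAlgebra.Dimension.Localization

/-!
# Descent of lattices along `R → R'` (coordinate form)

`R → R'` is a map of discrete valuation rings with a common uniformizer `π`, `G` a set of
automorphisms of `R'` over `R` whose invariants modulo `π` come from `R`.  A `G`-stable
`R'`-submodule `M` of `R'^ι` (`ι` finite) containing `π^n R'^ι` is generated by `M ∩ R^ι`.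

* `Grp`: the hypothesis on `G`.
* `exists_mem_not_dvd`: the residue field case.
* `mem_span_of_stable`: the main result.
-/

set_option autoImplicit false

namespace Groth.Agent.Sga7.H516.LatCoord

variable {R R' : Type*} [CommRing R] [CommRing R'] [Algebra R R'] {ι : Type*}

/-- The elements of `R'` which are invariant modulo `π` come from `R` modulo `π`. -/
def Inv (π : R) (G : Set (R' ≃ₐ[R] R')) : Prop :=
  ∀ x : R', (∀ σ ∈ G, algebraMap R R' π ∣ σ x - x) → ∃ r : R, algebraMap R R' π ∣ x - algebraMap R R' r

/-- Stability of a submodule of `R'^ι` under coordinatewise application of `G`. -/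
def Stable (G : Set (R' ≃ₐ[R] R')) (M : Submodule R' (ι → R')) : Prop :=
  ∀ σ ∈ G, ∀ x ∈ M, (fun i => σ (x i)) ∈ M

/-- The vector of `R'^ι` attached to a vector of `R^ι`. -/
def vec (R' : Type*) [CommRing R'] [Algebra R R'] (y : ι → R) : ι → R' :=
  fun i => algebraMap R R' (y i)

theorem vec_apply (y : ι → R) (i : ι) : vec R' y i = algebraMap R R' (y i) := rfl

/-- Residue field case: a `G`-stable submodule `N ⊇ π R'^ι` which is not contained in `π R'^ι`
contains a vector of `R^ι` which is not divisible by `π`. -/
theorem exists_mem_not_dvd [Finite ι] {π : R} {G : Set (R' ≃ₐ[R] R')} (hG : Inv π G)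
    (hloc : ∀ x : R', ¬ algebraMap R R' π ∣ x → IsUnit x)
    (N : Submodule R' (ι → R')) (hN : Stable G N)
    (hπ : ∀ x : ι → R', algebraMap R R' π • x ∈ N)
    (x : ι → R') (hx : x ∈ N) (i : ι) (hi : ¬ algebraMap R R' π ∣ x i) :
    ∃ y : ι → R, vec R' y ∈ N ∧ ∃ j, ¬ algebraMap R R' π ∣ vec R' y j := by
  classical
  have _ := Fintype.ofFinite ι
  -- number of coordinates not divisible by `π`
  let supp : (ι → R') → Finset ι := fun z => Finset.univ.filter fun j => ¬ algebraMap R R' π ∣ z j
  have key : ∀ n : ℕ, ∀ x : ι → R', x ∈ N → (supp x).card = n → (∃ i, ¬ algebraMap R R' π ∣ x i) →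
      ∃ y : ι → R, vec R' y ∈ N ∧ ∃ j, ¬ algebraMap R R' π ∣ vec R' y j := by
    intro n
    induction n using Nat.strong_induction_on with
    | _ n ih =>
      intro x hx hn ⟨i, hi⟩
      obtain ⟨u, hu⟩ := hloc (x i) hi
      -- normalise
      let z : ι → R' := (↑u⁻¹ : R') • x
      have hz : z ∈ N := N.smul_mem _ hx
      have hzi : z i = 1 := by
        simp only [z, Pi.smul_apply, smul_eq_mul, ← hu, Units.inv_mul]
      have hsupp : supp z = supp x := by
        ext j
        simp only [supp, Finset.mem_filter, Finset.mem_univ, true_and, z, Pi.smul_apply, smul_eq_mul]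
        rw [not_iff_not]
        exact ⟨fun h => by
          have := h.mul_left (u : R')
          rwa [← mul_assoc, Units.mul_inv, one_mul] at this, fun h => h.mul_left _⟩
      by_cases hall : ∀ σ ∈ G, ∀ j, algebraMap R R' π ∣ σ (z j) - z j
      · choose y hy using fun j => hG (z j) (fun σ hσ => hall σ hσ j)
        refine ⟨y, ?_, i, ?_⟩
        · choose c hc using hy
          have : vec R' y = z - algebraMap R R' π • c := by
            funext j
            simp only [vec, Pi.sub_apply, Pi.smul_apply, smul_eq_mul, ← hc j]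
            ring
          rw [this]
          exact N.sub_mem hz (hπ _)
        · intro h
          have h2 := hy i
          have h3 : algebraMap R R' π ∣ z i := by
            have := dvd_add h2 h
            rwa [vec_apply, sub_add_cancel] at this
          rw [hzi] at h3
          exact hi (h3.trans (one_dvd _))
      · push Not at hall
        obtain ⟨σ, hσ, j, hj⟩ := hall
        let w : ι → R' := (fun i => σ (z i)) - z
        have hw : w ∈ N := N.sub_mem (hN σ hσ z hz) hz
        have hsub : supp w ⊂ supp x := by
          rw [← hsupp]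
          refine Finset.ssubset_iff_subset_ne.2 ⟨?_, ?_⟩
          · intro m hm
            simp only [supp, Finset.mem_filter, Finset.mem_univ, true_and] at hm ⊢
            intro hm2
            apply hm
            refine dvd_sub ?_ hm2
            obtain ⟨c, hc⟩ := hm2
            show algebraMap R R' π ∣ σ (z m)
            rw [hc, map_mul, AlgEquiv.commutes]
            exact dvd_mul_right _ _
          · intro heq
            have h1 : i ∈ supp z := by
              simp only [supp, Finset.mem_filter, Finset.mem_univ, true_and, hzi]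
              intro h
              exact hi (h.trans (one_dvd _))
            rw [← heq] at h1
            simp only [supp, Finset.mem_filter, Finset.mem_univ, true_and, w, Pi.sub_apply, hzi,
              map_one, sub_self, dvd_zero, not_true_eq_false] at h1
        exact ih _ (hn ▸ Finset.card_lt_card hsub) w hw rfl ⟨j, hj⟩
  exact key _ x hx rfl ⟨i, hi⟩

/-- The vectors of `R^ι` in `M`. -/
def rat (M : Submodule R' (ι → R')) : Submodule R (ι → R) where
  carrier := {y | vec R' y ∈ M}
  add_mem' {a b} ha hb := by
    have : vec R' (a + b) = vec R' a + vec R' b := by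
      funext i
      simp [vec]
    show vec R' (a + b) ∈ M
    rw [this]
    exact M.add_mem ha hb
  zero_mem' := by
    have : vec R' (0 : ι → R) = 0 := by
      funext i
      simp [vec]
    show vec R' (0 : ι → R) ∈ M
    rw [this]
    exact M.zero_mem
  smul_mem' c a ha := by
    have : vec R' (c • a) = algebraMap R R' c • vec R' a := by
      funext i
      simp [vec]
    show vec R' (c • a) ∈ M
    rw [this]
    exact M.smul_mem _ ha

theorem mem_rat {M : Submodule R' (ι → R')} {y : ι → R} : y ∈ rat M ↔ vec R' y ∈ M := Iff.rfl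

/-- The `R'`-submodule generated by the vectors of `R^ι` in `M`. -/
def gen (M : Submodule R' (ι → R')) : Submodule R' (ι → R') :=
  Submodule.span R' (vec R' '' (rat (R := R) M : Set (ι → R)))

theorem gen_le (M : Submodule R' (ι → R')) : gen (R := R) M ≤ M := by
  rw [gen, Submodule.span_le]
  rintro _ ⟨y, hy, rfl⟩
  exact hy

variable [Finite ι]

/-- One step of the descent: `M / R'(M ∩ R^ι)` has no `π`-torsion. -/
theorem mem_gen_of_smul_mem [IsDomain R] [IsPrincipalIdealRing R] [IsDomain R']
    {π : R} (hπ0 : algebraMap R R' π ≠ 0) {G : Set (R' ≃ₐ[R] R')} (hG : Inv π G)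
    (hloc : ∀ x : R', ¬ algebraMap R R' π ∣ x → IsUnit x)
    (hdvd : ∀ r : R, algebraMap R R' π ∣ algebraMap R R' r → π ∣ r)
    (M : Submodule R' (ι → R')) (hM : Stable G M)
    (x : ι → R') (hx : x ∈ M) (hx' : algebraMap R R' π • x ∈ gen (R := R) M) :
    x ∈ gen (R := R) M := by
  classical
  have _ := Fintype.ofFinite ι
  obtain ⟨m, b⟩ := Submodule.basisOfPid (Pi.basisFun R ι) (rat (R := R) M)
  let φ : (Fin m → R') →ₗ[R'] (ι → R') := Fintype.linearCombination R' fun j => vec R' (b j : ι → R)
  have hφ : ∀ c, φ c = ∑ j, c j • vec R' (b j : ι → R) := fun c =>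
    Fintype.linearCombination_apply _ _ _
  have hφM : ∀ c, φ c ∈ gen (R := R) M := by
    intro c
    rw [hφ]
    exact Submodule.sum_mem _ fun j _ => Submodule.smul_mem _ _
      (Submodule.subset_span ⟨_, (b j).2, rfl⟩)
  have hgen : ∀ z ∈ gen (R := R) M, ∃ c, φ c = z := by
    intro z hz
    have h1 : gen (R := R) M ≤ LinearMap.range φ := by
      rw [gen, Submodule.span_le]
      rintro _ ⟨y, hy, rfl⟩
      refine ⟨fun j => algebraMap R R' (b.repr ⟨y, hy⟩ j), ?_⟩
      have h2 := congrArg (Subtype.val) (b.sum_repr ⟨y, hy⟩)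
      rw [hφ]
      simp only [AddSubmonoidClass.coe_finsetSum, SetLike.val_smul] at h2
      funext i
      have h3 := congrFun h2 i
      simp only [Finset.sum_apply, Pi.smul_apply, smul_eq_mul] at h3
      simp only [Finset.sum_apply, Pi.smul_apply, smul_eq_mul, vec_apply, ← map_mul, ← map_sum, h3]
    exact h1 hz
  obtain ⟨c, hc⟩ := hgen _ hx'
  -- the relation module
  let N : Submodule R' (Fin m → R') :=
    (M.map (LinearMap.lsmul R' (ι → R') (algebraMap R R' π))).comap φ
  have hN : ∀ c, c ∈ N ↔ ∃ z ∈ M, algebraMap R R' π • z = φ c := fun c => Iff.rfl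
  have hvec : ∀ y : Fin m → R, φ (vec R' y) = vec R' (∑ j, y j • (b j : ι → R)) := by
    intro y
    rw [hφ]
    funext i
    simp only [Finset.sum_apply, Pi.smul_apply, smul_eq_mul, vec_apply, map_sum, map_mul]
  by_cases hall : ∀ i, algebraMap R R' π ∣ c i
  · choose d hd using hall
    have h1 : c = algebraMap R R' π • d := by
      funext i
      simp [hd i]
    rw [h1, map_smul] at hc
    have h2 : φ d = x := by
      have := smul_right_injective (ι → R') hπ0 hc
      exact this
    rw [← h2]
    exact hφM d
  · push Not at hall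
    obtain ⟨i, hi⟩ := hall
    exfalso
    obtain ⟨y, hy, j, hj⟩ := exists_mem_not_dvd hG hloc N (by
      intro σ hσ c hc
      obtain ⟨z, hz, hzc⟩ := (hN c).1 hc
      refine (hN _).2 ⟨fun i => σ (z i), hM σ hσ z hz, ?_⟩
      funext i
      have h1 := congrArg σ (congrFun hzc i)
      rw [hφ] at h1 ⊢
      simp only [Pi.smul_apply, smul_eq_mul, map_mul, AlgEquiv.commutes, Finset.sum_apply, map_sum,
        vec_apply] at h1 ⊢
      exact h1) (by
      intro c
      refine (hN _).2 ⟨φ c, gen_le M (hφM c), ?_⟩
      rw [map_smul]) c ((hN c).2 ⟨x, hx, hc.symm⟩) i hi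
    apply hj
    obtain ⟨z, hz, hzy⟩ := (hN _).1 hy
    rw [hvec] at hzy
    set w : ι → R := ∑ j, y j • (b j : ι → R) with hw
    have h3 : ∀ i, ∃ e : R, w i = π * e := by
      intro i
      have h4 := congrFun hzy i
      exact hdvd (w i) ⟨z i, by
        rw [← vec_apply w i, ← h4]
        rfl⟩
    choose e he using h3
    have h5 : vec R' e = z := by
      funext i
      have h4 := congrFun hzy i
      rw [Pi.smul_apply, smul_eq_mul, vec_apply, he i, map_mul] at h4
      exact (mul_left_cancel₀ hπ0 h4).symm
    have h6 : e ∈ rat (R := R) M := by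
      rw [mem_rat, h5]
      exact hz
    have h7 : (∑ j, y j • b j : rat (R := R) M) = π • ⟨e, h6⟩ := by
      apply Subtype.ext
      simp only [AddSubmonoidClass.coe_finsetSum, SetLike.val_smul]
      rw [← hw]
      funext i
      exact he i
    have h8 : y j = π * b.repr ⟨e, h6⟩ j := by
      have h9 := congrArg (fun z => b.repr z j) h7
      simp only [b.repr_sum_self, map_smul, Finsupp.smul_apply, smul_eq_mul] at h9
      exact h9
    rw [vec_apply, h8, map_mul]
    exact dvd_mul_right _ _

/-- **Descent of lattices.**  A `G`-stable submodule of `R'^ι` containing `π^n R'^ι` is generated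
by its vectors in `R^ι`. -/
theorem gen_eq_of_stable [IsDomain R] [IsPrincipalIdealRing R] [IsDomain R']
    {π : R} (hπ0 : algebraMap R R' π ≠ 0) {G : Set (R' ≃ₐ[R] R')} (hG : Inv π G)
    (hloc : ∀ x : R', ¬ algebraMap R R' π ∣ x → IsUnit x)
    (hdvd : ∀ r : R, algebraMap R R' π ∣ algebraMap R R' r → π ∣ r)
    (M : Submodule R' (ι → R')) (hM : Stable G M)
    (n : ℕ) (hn : ∀ x : ι → R', algebraMap R R' π ^ n • x ∈ M) :
    gen (R := R) M = M := by
  classical
  have _ := Fintype.ofFinite ι
  refine le_antisymm (gen_le M) fun x hx => ?_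
  have h1 : ∀ k : ℕ, ∀ x ∈ M, algebraMap R R' π ^ k • x ∈ gen (R := R) M → x ∈ gen (R := R) M := by
    intro k
    induction k with
    | zero =>
      intro x _ h
      simpa using h
    | succ k ih =>
      intro x hx h
      refine ih x hx (mem_gen_of_smul_mem hπ0 hG hloc hdvd M hM _ (M.smul_mem _ hx) ?_)
      rwa [smul_smul, ← pow_succ']
  refine h1 n x hx ?_
  have h2 : algebraMap R R' π ^ n • x =
      ∑ i, x i • vec R' (π ^ n • (Pi.single i 1 : ι → R)) := by
    funext j
    simp only [Pi.smul_apply, smul_eq_mul, Finset.sum_apply, vec_apply, Pi.single_apply, map_mul,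
      map_pow]
    simp [mul_comm]
  rw [h2]
  refine Submodule.sum_mem _ fun i _ => Submodule.smul_mem _ _ (Submodule.subset_span ⟨_, ?_, rfl⟩)
  show vec R' (π ^ n • (Pi.single i 1 : ι → R)) ∈ M
  have h3 : vec R' (π ^ n • (Pi.single i 1 : ι → R)) =
      algebraMap R R' π ^ n • vec R' (Pi.single i 1 : ι → R) := by
    funext j
    simp [vec_apply]
  rw [h3]
  exact hn _

end Groth.Agent.Sga7.H516.LatCoord
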