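import Groth.Agent.Sga7.H516.NeronNeutral
import Groth.Agent.Sga7.H516.Assemble
import Groth.Agent.Sga7.H331.Glue

/-!
# The descent data on the identity component of a Neron model

`R` a discrete valuation ring, `R'` a strict henselization, `K`, `K'` the fraction fields, `A` an
abelian variety over `K`, `G` a smooth separated group scheme over `R'` with generic fibre
`A_{K'}` such that the automorphisms `1 × σ` of the generic fibre extend to `G`.

* `data`, `lift`: the input of the descent theorem of `Groth.Agent.Sga7.H331.Glue`.
* `desc_of_charts`: `G` descends to `R` if it is covered by stable affine charts with generic fibre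
  defined over `K`.
-/

set_option autoImplicit false
set_option linter.unusedSectionVars false
universe u

open CategoryTheory CategoryTheory.Limits AlgebraicGeometry MonoidalCategory
  CartesianMonoidalCategory MonObj GrpObj

namespace Groth.Agent.Sga7.H516.LiftData

open Square NeronNeutral Assemble

section General

variable (R K : Type u) [CommRing R] [IsDomain R] [Field K] [Algebra R K] [IsFractionRing R K]

/-- A flat scheme over a domain with integral generic fibre is integral. -/
theorem isIntegral_of_isPullback {P X : Scheme.{u}} {j : P ⟶ X} {b : P ⟶ Spec (CommRingCat.of K)}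
    {x : X ⟶ Spec (CommRingCat.of R)} (h : IsPullback j b x (sp R K)) [Flat x] [IsIntegral P] :
    IsIntegral X := by
  have h0 : IsSchemeTheoreticallyDominant (pullback.fst x (sp R K)) := inferInstance
  have h1 : IsSchemeTheoreticallyDominant j := by
    rw [← h.isoPullback_hom_fst]
    infer_instance
  have hqc : QuasiCompact j := MorphismProperty.of_isPullback (P := @QuasiCompact) h.flip
    inferInstance
  have h2 : IsReduced X := IsSchemeTheoreticallyDominant.isReduced j
  have h3 : IrreducibleSpace X := by
    have h1 : IsIrreducible (Set.range j) := by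
      rw [← Set.image_univ]
      exact (IrreducibleSpace.isIrreducible_univ _).image _ j.continuous.continuousOn
    have h2 := h1.closure
    rw [j.denseRange.closure_range] at h2
    exact { toPreirreducibleSpace := ⟨h2.2⟩, toNonempty := h2.1.to_subtype.map Subtype.val }
  exact isIntegral_of_irreducibleSpace_of_isReduced _

end General

section Res

variable (R R' : Type u) [CommRing R] [IsDomain R] [IsDiscreteValuationRing R] [CommRing R']
  [IsDomain R'] [IsLocalRing R'] [Algebra R R'] [IsLocalHom (algebraMap R R')]
  [Hensel.IsStrictHenselization R R']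

include R in
theorem isStrictlyHenselian : EtCoh.IsStrictlyHenselianLocalRing R' := by
  have h1 : HenselianLocalRing R' := Hensel.IsStrictHenselization.henselian (R := R)
  have h2 : IsSepClosure (IsLocalRing.ResidueField R) (IsLocalRing.ResidueField R') :=
    Hensel.IsStrictHenselization.isSepClosure
  exact ⟨h1, h2.sep_closed⟩

theorem fixedRes : Groth.Agent.Sga7.H331.LD.FixedRes R R' := by
  intro z hz
  obtain ⟨π, hπ⟩ := IsDiscreteValuationRing.exists_irreducible R
  obtain ⟨r, hr⟩ := SHBasic.inv_univ (R' := R') hπ z (fun σ _ => by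
    have := hz σ
    rwa [SHBasic.maximalIdeal_eq R' hπ, Ideal.mem_span_singleton] at this)
  refine ⟨r, ?_⟩
  rw [SHBasic.maximalIdeal_eq R' hπ, Ideal.mem_span_singleton]
  exact hr

end Res

variable {R R' : Type u} (K K' : Type u) [CommRing R] [IsDomain R] [CommRing R'] [IsDomain R']
  [Algebra R R'] [Field K] [Algebra R K] [IsFractionRing R K] [Field K'] [Algebra R' K']
  [IsFractionRing R' K'] [Algebra K K'] [Algebra R K'] [IsScalarTower R K K']
  [IsScalarTower R R' K']

/-- The data of the descent. -/
noncomputable def data (A : Over (Spec (CommRingCat.of K))) (G : Over (Spec (CommRingCat.of R')))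
    (e : (SGA7.genFib R' K').obj G ≅ Red.bc (sp K K') A) : Groth.Agent.Sga7.H331.Data R' K K' where
  A := A.left
  X := G.left
  P := (Red.bc (sp K K') A).left
  a := A.hom
  x := G.hom
  b := (Red.bc (sp K K') A).hom
  p := pullback.fst A.hom (sp K K')
  j := genι K' e
  hA := IsPullback.of_hasPullback A.hom (sp K K')
  hX := isPullback_genι K' e

/-- The action on the data of the descent. -/
noncomputable def lift {A : Over (Spec (CommRingCat.of K))} {G : Over (Spec (CommRingCat.of R'))}
    {e : (SGA7.genFib R' K').obj G ≅ Red.bc (sp K K') A}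
    (h : ∀ σ : R' ≃ₐ[R] R', ∃ φ : G.left ⟶ G.left, φ ≫ G.hom = G.hom ≫ spAut σ ∧
        genι K' e ≫ φ = twist K K' A σ ≫ genι K' e) (σ : R' ≃ₐ[R] R') : (data K K' A G e).Lift σ where
  φ := (h σ).choose
  ψ := twist K K' A σ
  hφ := (h σ).choose_spec.1
  hψ := (h σ).choose_spec.2
  hp := twist_fst K K' A σ

theorem desc_of_charts [IsDiscreteValuationRing R] [IsLocalRing R'] [IsLocalHom (algebraMap R R')]
    [Hensel.IsStrictHenselization R R'] {A : Over (Spec (CommRingCat.of K))}
    {G : Over (Spec (CommRingCat.of R'))} [GeometricallyIntegral A.hom] [IsSeparated A.hom]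
    [Smooth G.hom] [IsSeparated G.hom] {e : (SGA7.genFib R' K').obj G ≅ Red.bc (sp K K') A}
    (h : ∀ σ : R' ≃ₐ[R] R', ∃ φ : G.left ⟶ G.left, φ ≫ G.hom = G.hom ≫ spAut σ ∧
        genι K' e ≫ φ = twist K K' A σ ≫ genι K' e)
    (hcov : ∀ y : G.left, ∃ c : Groth.Agent.Sga7.H331.Data.Chart (lift K K' h), y ∈ c.U) :
    Desc R R' K K' A G e := by
  have : IsDiscreteValuationRing R' := SHBasic.isDiscreteValuationRing R R'
  have hint : IsIntegral G.left := by
    have h1 : GeometricallyIntegral (Red.bc (sp K K') A).hom :=
      MorphismProperty.pullback_snd (P := @GeometricallyIntegral) _ _ inferInstance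
    have h2 : IsIntegral (Red.bc (sp K K') A).left :=
      GeometricallyIntegral.isIntegral_of_subsingleton (Red.bc (sp K K') A).hom
    exact isIntegral_of_isPullback R' K' (isPullback_genι K' e)
  have i1 : IsIntegral (data K K' A G e).X := hint
  have i2 : Smooth (data K K' A G e).x := inferInstanceAs (Smooth G.hom)
  have i3 : IsSeparated (data K K' A G e).x := inferInstanceAs (IsSeparated G.hom)
  have i4 : IsSeparated (data K K' A G e).a := inferInstanceAs (IsSeparated A.hom)
  obtain ⟨Y, y, f, g, h1, h2, h3⟩ := Groth.Agent.Sga7.H331.Data.exists_descent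
    (fun ϖ hϖ => SHBasic.irreducible_algebraMap R' hϖ) (fixedRes R R')
    (isStrictlyHenselian R R') (lift K K' h) hcov
  refine ⟨Over.mk y, g, f, h2, h1, ?_⟩
  have h4 : e.hom.left ≫ genι K' e = pullback.fst G.hom (sp R' K') := by
    have h5 : e.hom.left ≫ e.inv.left = 𝟙 _ := congrArg (fun t => t.left) e.hom_inv_id
    rw [genι, reassoc_of% h5]
  rw [← h4, Category.assoc]
  congr 1

end Groth.Agent.Sga7.H516.LiftData
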