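import Groth.Agent.Sga7.H516.Square
import Groth.Prelude.Def_SGA7IX

/-!
# The Neron property in terms of cartesian squares, and the semilinear action on a Neron model

* `exists_ext`: the Neron property for `Y` smooth over `R` whose generic fibre is given by any
  cartesian square.
* `exists_semilinear`: let `R'` be a strict henselization (or any extension) of `R`, `N'` a Neron
  model over `R'` whose generic fibre is (by a cartesian square) `A'`; an automorphism `φ` of `A'`
  over `Spec σ`, `σ` an automorphism of `R'` over `R`, extends to `N'`.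
-/

set_option autoImplicit false
set_option linter.unusedSectionVars false
universe u

open CategoryTheory CategoryTheory.Limits AlgebraicGeometry

namespace Groth.Agent.Sga7.H516.NeronExt

open Square

section Ext

variable {R K : Type u} [CommRing R] [Field K] [Algebra R K]

/-- The Neron property for arbitrary cartesian squares. -/
theorem exists_ext {N : Over (Spec (CommRingCat.of R))} (hN : SGA7.IsNeron R K N)
    {Y YK : Scheme.{u}} {y : Y ⟶ Spec (CommRingCat.of R)} [Smooth y] {jY : YK ⟶ Y}
    {yK : YK ⟶ Spec (CommRingCat.of K)} (hY : IsPullback jY yK y (sp R K))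
    (f : YK ⟶ N.left) (hf : f ≫ N.hom = yK ≫ sp R K) :
    ∃ g : Y ⟶ N.left, g ≫ N.hom = y ∧ jY ≫ g = f := by
  obtain ⟨-, -, -, h⟩ := hN
  obtain ⟨-, hsurj⟩ := h (Over.mk y) (by assumption)
  let F : (SGA7.genFib R K).obj (Over.mk y) ⟶ (SGA7.genFib R K).obj N :=
    Over.homMk (pullback.lift (hY.isoPullback.inv ≫ f) (hY.isoPullback.inv ≫ yK) (by
      rw [Category.assoc, Category.assoc, hf])) (by
      refine (pullback.lift_snd _ _ _).trans ?_
      exact hY.isoPullback_inv_snd)
  obtain ⟨g, hg⟩ := hsurj F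
  refine ⟨g.left, Over.w g, ?_⟩
  have h1 : ((SGA7.genFib R K).map g).left ≫ pullback.fst N.hom (sp R K) =
    pullback.fst y (sp R K) ≫ g.left := pullback.lift_fst _ _ _
  have h2 : ((SGA7.genFib R K).map g).left = F.left := congrArg (fun t => t.left) hg
  have h3 : F.left ≫ pullback.fst N.hom (sp R K) = hY.isoPullback.inv ≫ f :=
    pullback.lift_fst _ _ _
  rw [h2, h3] at h1
  rw [← hY.isoPullback_hom_fst, Category.assoc, ← h1, Iso.hom_inv_id_assoc]

/-- Uniqueness in the Neron property. -/
theorem ext_generic {N : Over (Spec (CommRingCat.of R))} (hN : SGA7.IsNeron R K N)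
    {Y YK : Scheme.{u}} {y : Y ⟶ Spec (CommRingCat.of R)} [Smooth y] {jY : YK ⟶ Y}
    {yK : YK ⟶ Spec (CommRingCat.of K)} (hY : IsPullback jY yK y (sp R K))
    {g g' : Y ⟶ N.left} (hg : g ≫ N.hom = y) (hg' : g' ≫ N.hom = y) (h : jY ≫ g = jY ≫ g') :
    g = g' := by
  obtain ⟨-, -, -, hb⟩ := hN
  obtain ⟨hinj, -⟩ := hb (Over.mk y) (by assumption)
  have h1 : (Over.homMk g hg : Over.mk y ⟶ N) = Over.homMk g' hg' := by
    apply hinj
    dsimp only
    ext1
    apply pullback.hom_ext
    · have e : ∀ (k : Over.mk y ⟶ N), ((Over.pullback (sp R K)).map k).left ≫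
        pullback.fst N.hom (sp R K) = pullback.fst y (sp R K) ≫ k.left :=
        fun k => pullback.lift_fst _ _ _
      refine (e _).trans (Eq.trans ?_ (e _).symm)
      show pullback.fst y (sp R K) ≫ g = pullback.fst y (sp R K) ≫ g'
      rw [← hY.isoPullback_inv_fst, Category.assoc, Category.assoc, h]
    · have e : ∀ (k : Over.mk y ⟶ N), ((Over.pullback (sp R K)).map k).left ≫
        pullback.snd N.hom (sp R K) = pullback.snd y (sp R K) := by
        intro k
        exact (Over.w ((Over.pullback (sp R K)).map k))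
      exact (e _).trans (e _).symm
  exact congrArg (fun t => t.left) h1

end Ext

section Semi

variable {R R' : Type u} (K K' : Type u) [CommRing R] [IsDomain R] [CommRing R'] [IsDomain R']
  [Algebra R R'] [Field K] [Algebra R K] [IsFractionRing R K] [Field K'] [Algebra R' K']
  [IsFractionRing R' K'] [Algebra K K'] [Algebra R K'] [IsScalarTower R K K']
  [IsScalarTower R R' K']

/-- An automorphism over `Spec σ` of the generic fibre of a Neron model over `R'` extends. -/
theorem exists_semilinear {N : Over (Spec (CommRingCat.of R'))} (hN : SGA7.IsNeron R' K' N)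
    {A' : Scheme.{u}} {a' : A' ⟶ Spec (CommRingCat.of K')} {j : A' ⟶ N.left}
    (hj : IsPullback j a' N.hom (sp R' K')) (σ : R' ≃ₐ[R] R') (φ : A' ⟶ A')
    (hφ : φ ≫ a' = a' ≫ spAutK K K' σ) :
    ∃ φN : N.left ⟶ N.left, φN ≫ N.hom = N.hom ≫ spAut σ ∧ j ≫ φN = φ ≫ j := by
  have hsm : Smooth N.hom := hN.1
  have hsm' : Smooth (N.hom ≫ spAut σ) := inferInstance
  have h1 : IsPullback j (a' ≫ spAutK K K' σ) (N.hom ≫ spAut σ) (sp R' K') :=
    hj.paste_vert (isPullback_spAut K K' σ)
  obtain ⟨g, hg, hg'⟩ := exists_ext hN h1 (φ ≫ j) (by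
    rw [Category.assoc, hj.w, ← Category.assoc, hφ])
  exact ⟨g, hg, hg'⟩

end Semi

end Groth.Agent.Sga7.H516.NeronExt
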