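import Groth.Agent.Sga3.H778.NeutralOpen
import Groth.Prelude.Def_SGA7IX

/-!
# The neutral component of a smooth group scheme over a local base

* `exists_neutral`: `N` smooth and separated over `S`: there is an open subgroup `G` of `N` with
  underlying set `SGA3x.neutralSet N`, smooth, separated, quasi-compact, with irreducible fibres.
* `map_neutralSet`: automorphisms of `N` over an automorphism of the base which preserve the unit
  section preserve `neutralSet N`.
-/

set_option autoImplicit false

universe u

open CategoryTheory MonoidalCategory CartesianMonoidalCategory MonObj GrpObj AlgebraicGeometry Limits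

namespace Groth.Agent.Sga7.H516.Neutral

open Groth.Agent.Sga3.H778.NeutralPts Groth.Agent.Sga3.H778.NeutralOpen

variable {S : Scheme.{u}}

/-- The fibres of a group scheme with connected fibres are irreducible. -/
theorem isIrreducible_fibre (G : Over S) [GrpObj G] (s : S)
    (h : _root_.IsConnected (G.hom ⁻¹' {s})) : IsIrreducible (G.hom ⁻¹' {s}) := by
  let t : Spec (S.residueField s) ⟶ S := S.fromSpecResidueField s
  let T : Over S := Over.mk t
  let f : (T ⊗ G : Over S).left ⟶ G.left := (snd T G).left
  have hf : f = pullback.snd t G.hom := Over.snd_left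
  have himm : IsPreimmersion (pullback.snd t G.hom) := inferInstance
  have hrange : Set.range f = G.hom ⁻¹' {s} := by
    rw [hf]
    refine (Scheme.Pullback.range_snd (f := t) (g := G.hom)).trans ?_
    rw [Scheme.range_fromSpecResidueField]
  have hind : Topology.IsInducing f := by
    rw [hf]
    exact (pullback.snd t G.hom).isEmbedding.isInducing
  have hconn : _root_.IsPreconnected (Set.univ : Set (T ⊗ G : Over S).left) := by
    rw [← hind.isPreconnected_image, Set.image_univ, hrange]
    exact h.2
  obtain ⟨x, hx⟩ := h.1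
  rw [← hrange] at hx
  obtain ⟨q, rfl⟩ := hx
  have hcc : connectedComponent q = Set.univ :=
    Set.eq_univ_of_univ_subset (hconn.subset_connectedComponent (Set.mem_univ q))
  have hirr := isPreirreducible_component (G := G) (S.residueField s) t q
  have h2 : IsPreirreducible (connectedComponent q) := hirr
  rw [hcc] at h2
  refine ⟨h.1, ?_⟩
  rw [← hrange, ← Set.image_univ]
  exact h2.image _ f.continuous.continuousOn

/-- The neutral component of a smooth separated group scheme. -/
theorem exists_neutral (N : Over S) [GrpObj N] [Smooth N.hom] [IsSeparated N.hom] :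
    ∃ (G : Over S) (_ : GrpObj G) (i : G ⟶ N), IsMonHom i ∧ IsOpenImmersion i.left ∧
      Set.range i.left = SGA3x.neutralSet N ∧ Smooth G.hom ∧ IsSeparated G.hom ∧
      QuasiCompact G.hom ∧ ∀ s : S, IsIrreducible (G.hom ⁻¹' {s}) := by
  have hsm : Smooth ((⊤ : N.left.Opens).ι ≫ N.hom) := inferInstance
  have hU : ∀ s, unitSec N s ∈ (⊤ : N.left.Opens) := fun _ => trivial
  have h := isOpen_neutralSet N ⊤ hU
  obtain ⟨hgrp, hmon⟩ := exists_grpObj N h
  have hs0 : Smooth (opn N (neutral N h)).hom := smooth_neutral N ⊤ hU h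
  refine ⟨opn N (neutral N h), hgrp, opnι N (neutral N h), hmon, inferInstance, ?_,
    hs0, ?_, (Groth.Agent.S3025.result S (opn N (neutral N h))
      (isConnected_fibre N h)).2, fun s => isIrreducible_fibre _ s (isConnected_fibre N h s)⟩
  · change Set.range (neutral N h).ι = _
    rw [Scheme.Opens.range_ι]
    rfl
  · change IsSeparated ((neutral N h).ι ≫ N.hom)
    infer_instance

/-- Morphisms over a morphism of the base preserving the unit section preserve `neutralSet`. -/
theorem map_mem_neutralSet {N : Over S} [GrpObj N] (σ : S ⟶ S) (φ : N.left ⟶ N.left)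
    (h1 : φ ≫ N.hom = N.hom ≫ σ) (h2 : unitSec N ≫ φ = σ ≫ unitSec N) (x : N.left)
    (hx : x ∈ SGA3x.neutralSet N) : φ x ∈ SGA3x.neutralSet N := by
  rw [neutralSet_eq] at hx ⊢
  change x ∈ connectedComponentIn (N.hom ⁻¹' {N.hom x}) (unitSec N (N.hom x)) at hx
  change φ x ∈ connectedComponentIn (N.hom ⁻¹' {N.hom (φ x)}) (unitSec N (N.hom (φ x)))
  have h3 : N.hom (φ x) = σ (N.hom x) := by
    rw [← Scheme.Hom.comp_apply, h1, Scheme.Hom.comp_apply]
  have h4 : unitSec N (N.hom (φ x)) = φ (unitSec N (N.hom x)) := by
    rw [h3, ← Scheme.Hom.comp_apply, ← h2, Scheme.Hom.comp_apply]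
  rw [h4, h3]
  have h5 : Set.MapsTo φ (N.hom ⁻¹' {N.hom x}) (N.hom ⁻¹' {σ (N.hom x)}) := by
    intro y hy
    have hy' : N.hom y = N.hom x := hy
    change N.hom (φ y) = _
    rw [← Scheme.Hom.comp_apply, h1, Scheme.Hom.comp_apply, hy']
  have h6 : _root_.IsPreconnected (φ '' connectedComponentIn (N.hom ⁻¹' {N.hom x})
      (unitSec N (N.hom x))) :=
    isPreconnected_connectedComponentIn.image _ φ.continuous.continuousOn
  refine h6.subset_connectedComponentIn ⟨_, mem_connectedComponentIn (hom_unitSec N _), rfl⟩
    ?_ ⟨x, hx, rfl⟩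
  rintro _ ⟨y, hy, rfl⟩
  exact h5 (connectedComponentIn_subset _ _ hy)

end Groth.Agent.Sga7.H516.Neutral
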