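import Groth.Agent.Sga7.H516.NeronExt
import Groth.Agent.Sga7.H516.Neutral
import Groth.Agent.Sga7.H516.GrpDescent
import Groth.Agent.Sga7.H737.FlatMonoBC

/-!
# The identity component of a Neron model and the semilinear action

`R` a discrete valuation ring, `R'` a strict henselization (or any extension), `K`, `K'` the
fraction fields, `A` an abelian variety over `K`, `N'` a Neron model over `R'` of `A_{K'}`.

* `twist σ`: the automorphism `1 × σ` of `A_{K'}`.
* `exists_neutral_semilinear`: the identity component `G` of `N'` (an open subgroup, smooth,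
  separated, quasi-compact, with irreducible fibres, generic fibre `A_{K'}`), and for every
  automorphism `σ` of `R'` over `R` the extension of `1 × σ` to `G`.
-/

set_option autoImplicit false
set_option linter.unusedSectionVars false
universe u

open CategoryTheory CategoryTheory.Limits AlgebraicGeometry MonoidalCategory
  CartesianMonoidalCategory MonObj GrpObj

namespace Groth.Agent.Sga7.H516.NeronNeutral

open Square Groth.Agent.Sga3.H778.NeutralPts Groth.Agent.Sga3B.BcPts GrpDescent

section Unit

/-- The unit section of a base change. -/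
theorem unitSec_bc {T S : Scheme.{u}} (f : T ⟶ S) (G : Over S) [GrpObj G] :
    unitSec (Red.bc f G) ≫ pullback.fst G.hom f = f ≫ unitSec G := by
  have h1 : η[Red.bc f G] = bcEquiv f (𝟙_ (Over T)) G 1 := by
    rw [bcEquiv_one, one_eq_one]
  have h2 := bcEquiv_left_fst f (𝟙_ (Over T)) G 1
  rw [← h1] at h2
  refine h2.trans ?_
  rw [Hom.one_def, Over.comp_left]
  have h3 : (toUnit ((Over.map f).obj (𝟙_ (Over T)))).left = f := by
    have := Over.w (toUnit ((Over.map f).obj (𝟙_ (Over T))))
    have h4 : (toUnit ((Over.map f).obj (𝟙_ (Over T)))).left =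
        (toUnit ((Over.map f).obj (𝟙_ (Over T)))).left ≫ (𝟙_ (Over S)).hom :=
      (Category.comp_id _).symm
    rw [h4, this]
    exact Category.id_comp _
  rw [h3]
  rfl

theorem unitSec_hom_comp {S : Scheme.{u}} {G H : Over S} [GrpObj G] [GrpObj H] (e : G ⟶ H)
    [IsMonHom e] : unitSec G ≫ e.left = unitSec H := by
  have h := IsMonHom.one_hom e
  exact congrArg (fun t => t.left) h

end Unit

variable {R R' : Type u} (K K' : Type u) [CommRing R] [IsDomain R] [CommRing R'] [IsDomain R']
  [Algebra R R'] [Field K] [Algebra R K] [IsFractionRing R K] [Field K'] [Algebra R' K']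
  [IsFractionRing R' K'] [Algebra K K'] [Algebra R K'] [IsScalarTower R K K']
  [IsScalarTower R R' K']

/-- The automorphism `1 × σ` of `A_{K'}`. -/
noncomputable def twist (A : Over (Spec (CommRingCat.of K))) (σ : R' ≃ₐ[R] R') :
    (Red.bc (sp K K') A).left ⟶ (Red.bc (sp K K') A).left :=
  pullback.lift (pullback.fst A.hom (sp K K')) (pullback.snd A.hom (sp K K') ≫ spAutK K K' σ)
    (by rw [Category.assoc, spAutK_sp, pullback.condition])

@[reassoc (attr := simp)]
theorem twist_fst (A : Over (Spec (CommRingCat.of K))) (σ : R' ≃ₐ[R] R') :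
    twist K K' A σ ≫ pullback.fst A.hom (sp K K') = pullback.fst A.hom (sp K K') :=
  pullback.lift_fst _ _ _

@[reassoc]
theorem twist_snd (A : Over (Spec (CommRingCat.of K))) (σ : R' ≃ₐ[R] R') :
    twist K K' A σ ≫ pullback.snd A.hom (sp K K') =
      pullback.snd A.hom (sp K K') ≫ spAutK K K' σ :=
  pullback.lift_snd _ _ _

theorem unitSec_twist (A : Over (Spec (CommRingCat.of K))) [GrpObj A] (σ : R' ≃ₐ[R] R') :
    unitSec (Red.bc (sp K K') A) ≫ twist K K' A σ =
      spAutK K K' σ ≫ unitSec (Red.bc (sp K K') A) := by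
  apply pullback.hom_ext
  · rw [Category.assoc, twist_fst, Category.assoc, unitSec_bc, ← Category.assoc, spAutK_sp]
  · rw [Category.assoc, twist_snd, Category.assoc]
    have h := unitSec_hom (Red.bc (sp K K') A)
    have h1 : unitSec (Red.bc (sp K K') A) ≫ pullback.snd A.hom (sp K K') = 𝟙 _ := h
    rw [h1, reassoc_of% h1, Category.comp_id]

/-- The inclusion of the generic fibre. -/
noncomputable def genι {A' : Over (Spec (CommRingCat.of K'))} {N : Over (Spec (CommRingCat.of R'))}
    (e : (SGA7.genFib R' K').obj N ≅ A') : A'.left ⟶ N.left :=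
  e.inv.left ≫ pullback.fst N.hom (sp R' K')

theorem isPullback_genι {A' : Over (Spec (CommRingCat.of K'))}
    {N : Over (Spec (CommRingCat.of R'))} (e : (SGA7.genFib R' K').obj N ≅ A') :
    IsPullback (genι K' e) A'.hom N.hom (sp R' K') := by
  have : IsIso e.inv.left := inferInstanceAs (IsIso ((Over.forget _).map e.inv))
  refine IsPullback.of_iso (IsPullback.of_hasPullback N.hom (sp R' K'))
    ((Over.forget _).mapIso e) (Iso.refl _) (Iso.refl _) (Iso.refl _) ?_ ?_ ?_ ?_
  · dsimp [genι]
    have h1 : e.hom.left ≫ e.inv.left = 𝟙 _ := congrArg (fun t => t.left) e.hom_inv_id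
    rw [reassoc_of% h1, Category.comp_id]
  · dsimp
    rw [Category.comp_id]
    exact (Over.w e.hom).symm
  · simp
  · simp

/-- The extension of `1 × σ` to a Neron model preserves the unit section. -/
theorem exists_semilinear_unit (A : Over (Spec (CommRingCat.of K))) [GrpObj A]
    (N : Over (Spec (CommRingCat.of R'))) [GrpObj N] (hN : SGA7.IsNeron R' K' N)
    (e : (SGA7.genFib R' K').obj N ≅ Red.bc (sp K K') A) [IsMonHom e.hom] (σ : R' ≃ₐ[R] R') :
    ∃ φ : N.left ⟶ N.left, φ ≫ N.hom = N.hom ≫ spAut σ ∧
      genι K' e ≫ φ = twist K K' A σ ≫ genι K' e ∧ unitSec N ≫ φ = spAut σ ≫ unitSec N := by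
  obtain ⟨φ, h1, h2⟩ := NeronExt.exists_semilinear K K' hN (isPullback_genι K' e) σ
    (twist K K' A σ) (twist_snd K K' A σ)
  refine ⟨φ, h1, h2, ?_⟩
  have hsep : IsSeparated N.hom := hN.2.1
  have h3 : unitSec (Red.bc (sp K K') A) ≫ genι K' e = sp R' K' ≫ unitSec N := by
    have h4 := unitSec_hom_comp e.hom
    have h5 : e.hom.left ≫ e.inv.left = 𝟙 _ := congrArg (fun t => t.left) e.hom_inv_id
    rw [genι, ← h4, Category.assoc, reassoc_of% h5]
    exact unitSec_bc (sp R' K') N
  refine H116.L1.ext_of_schemeDominant (sp R' K') N.hom _ _ ?_ ?_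
  · have h6 := unitSec_hom N
    rw [Category.assoc, h1, reassoc_of% h6, Category.assoc, h6, Category.comp_id]
  · rw [← Category.assoc, ← h3, Category.assoc, h2, ← Category.assoc, unitSec_twist,
      Category.assoc, h3, ← Category.assoc, spAutK_sp', Category.assoc]

/-- The fibres of a group scheme over the points of a subscheme with connected preimage are
contained in the neutral component. -/
theorem mem_neutralSet_of_isPreconnected {S : Scheme.{u}} (N : Over S) [GrpObj N] (x : N.left)
    (h : _root_.IsPreconnected (N.hom ⁻¹' {N.hom x})) : x ∈ SGA3x.neutralSet N := by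
  rw [neutralSet_eq]
  change x ∈ connectedComponentIn (N.hom ⁻¹' {N.hom x}) (unitSec N (N.hom x))
  exact h.subset_connectedComponentIn (hom_unitSec N (N.hom x)) subset_rfl rfl

/-- The points of the generic fibre belong to the neutral component if the generic fibre is
connected. -/
theorem genι_mem_neutralSet {A' : Over (Spec (CommRingCat.of K'))} [ConnectedSpace A'.left]
    {N : Over (Spec (CommRingCat.of R'))} [GrpObj N] (e : (SGA7.genFib R' K').obj N ≅ A')
    (a : A'.left) : genι K' e a ∈ SGA3x.neutralSet N := by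
  apply mem_neutralSet_of_isPreconnected
  have h1 := isPullback_genι K' e
  have h2 : Set.range (genι K' e) = N.hom ⁻¹' {N.hom (genι K' e a)} := by
    have h3 : Set.range (sp R' K') = {N.hom (genι K' e a)} := by
      have h4 : N.hom (genι K' e a) = sp R' K' (A'.hom a) := by
        rw [← Scheme.Hom.comp_apply, ← Scheme.Hom.comp_apply, h1.w]
      rw [h4]
      have : Subsingleton (Spec (CommRingCat.of K')) := inferInstance
      ext y
      simp only [Set.mem_range, Set.mem_singleton_iff]
      constructor
      · rintro ⟨z, rfl⟩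
        rw [Subsingleton.elim z (A'.hom a)]
      · rintro rfl
        exact ⟨_, rfl⟩
    rw [← h3, ← h1.isoPullback_hom_fst, Scheme.Hom.comp_base, TopCat.coe_comp, Set.range_comp,
      Set.range_eq_univ.2 h1.isoPullback.hom.surjective, Set.image_univ]
    exact Scheme.Pullback.range_fst _ _
  rw [← h2, ← Set.image_univ]
  exact isPreconnected_univ.image _ (genι K' e).continuous.continuousOn

/-- **The identity component of a Neron model and the semilinear action.** -/
theorem exists_neutral_semilinear (A : Over (Spec (CommRingCat.of K))) [GrpObj A]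
    [GeometricallyIntegral A.hom]
    (N : Over (Spec (CommRingCat.of R'))) [GrpObj N] (hN : SGA7.IsNeron R' K' N)
    (e : (SGA7.genFib R' K').obj N ≅ Red.bc (sp K K') A) [IsMonHom e.hom] :
    ∃ (G : Over (Spec (CommRingCat.of R'))) (_ : GrpObj G) (i : G ⟶ N)
      (e' : (SGA7.genFib R' K').obj G ≅ Red.bc (sp K K') A),
      IsMonHom i ∧ IsOpenImmersion i.left ∧ Set.range i.left = SGA3x.neutralSet N ∧
      IsMonHom e'.hom ∧ e'.hom = (SGA7.genFib R' K').map i ≫ e.hom ∧
      Smooth G.hom ∧ IsSeparated G.hom ∧ QuasiCompact G.hom ∧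
      (∀ s, IsIrreducible (G.hom ⁻¹' {s})) ∧
      ∀ σ : R' ≃ₐ[R] R', ∃ φ : G.left ⟶ G.left, φ ≫ G.hom = G.hom ≫ spAut σ ∧
        genι K' e' ≫ φ = twist K K' A σ ≫ genι K' e' := by
  have hsm : Smooth N.hom := hN.1
  have hsep : IsSeparated N.hom := hN.2.1
  obtain ⟨G, iG, i, hi, hio, hir, g1, g2, g3, g4⟩ := Neutral.exists_neutral N
  have hconn : ConnectedSpace (Red.bc (sp K K') A).left := by
    have h1 : GeometricallyIntegral (Red.bc (sp K K') A).hom :=
      MorphismProperty.pullback_snd (P := @GeometricallyIntegral) _ _ inferInstance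
    have h2 : IsIntegral (Red.bc (sp K K') A).left :=
      GeometricallyIntegral.isIntegral_of_subsingleton (Red.bc (sp K K') A).hom
    infer_instance
  have hiso : IsIso ((SGA7.genFib R' K').map i) := by
    have h1 : IsPullback ((SGA7.genFib R' K').map i).left (pullback.fst G.hom (sp R' K'))
        (pullback.fst N.hom (sp R' K')) i.left := H737.FlatMonoBC.isPullback_map (sp R' K') i
    have h2 : IsOpenImmersion ((SGA7.genFib R' K').map i).left :=
      MorphismProperty.of_isPullback h1.flip hio
    have h3 : Surjective ((SGA7.genFib R' K').map i).left := by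
      refine ⟨fun x => ?_⟩
      have h5 : pullback.fst N.hom (sp R' K') x ∈ Set.range i.left := by
        rw [hir]
        have h6 := genι_mem_neutralSet K' e (e.hom.left x)
        have h7 : e.hom.left ≫ e.inv.left = 𝟙 _ := congrArg (fun t => t.left) e.hom_inv_id
        rw [genι, ← Scheme.Hom.comp_apply, reassoc_of% h7] at h6
        exact h6
      obtain ⟨g, hg⟩ := h5
      obtain ⟨z, hz, -⟩ := Scheme.exists_preimage_of_isPullback h1 x g hg.symm
      exact ⟨z, hz⟩
    have h4 : IsIso ((SGA7.genFib R' K').map i).left :=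
      (isIso_iff_isOpenImmersion_and_surjective _).2 ⟨h2, h3⟩
    have h8 : IsIso ((Over.forget (Spec (CommRingCat.of K'))).map ((SGA7.genFib R' K').map i)) := h4
    exact isIso_of_reflects_iso ((SGA7.genFib R' K').map i) (Over.forget _)
  have hmi : IsMonHom ((SGA7.genFib R' K').map i) := inferInstance
  let e' : (SGA7.genFib R' K').obj G ≅ Red.bc (sp K K') A :=
    asIso ((SGA7.genFib R' K').map i) ≪≫ e
  have he' : IsMonHom e'.hom := inferInstanceAs (IsMonHom ((SGA7.genFib R' K').map i ≫ e.hom))
  have hgi : genι K' e' ≫ i.left = genι K' e := by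
    have h1 : ((SGA7.genFib R' K').map i).left ≫ pullback.fst N.hom (sp R' K') =
      pullback.fst G.hom (sp R' K') ≫ i.left := pullback.lift_fst _ _ _
    have h2 : e'.inv.left ≫ ((SGA7.genFib R' K').map i).left = e.inv.left := by
      rw [← Over.comp_left]
      congr 1
      simp [e']
    rw [genι, Category.assoc, ← h1, reassoc_of% h2]
    rfl
  refine ⟨G, iG, i, e', hi, hio, hir, he', rfl, g1, g2, g3, g4, fun σ => ?_⟩
  obtain ⟨φ, h1, h2, h3⟩ := exists_semilinear_unit K K' A N hN e σ
  have hr : Set.range (i.left ≫ φ) ⊆ Set.range i.left := by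
    rintro _ ⟨x, rfl⟩
    rw [Scheme.Hom.comp_apply, hir]
    refine Neutral.map_mem_neutralSet (spAut σ) φ h1 h3 _ ?_
    rw [← hir]
    exact ⟨x, rfl⟩
  have hfac := IsOpenImmersion.lift_fac i.left (i.left ≫ φ) hr
  refine ⟨IsOpenImmersion.lift i.left (i.left ≫ φ) hr, ?_, ?_⟩
  · rw [← Over.w i, reassoc_of% hfac, h1, Category.assoc]
  · rw [← cancel_mono i.left, Category.assoc, hfac, reassoc_of% hgi, h2, Category.assoc, hgi]

end Groth.Agent.Sga7.H516.NeronNeutral
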