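import Groth.Prelude.Def_Hensel
import Groth.Agent.Sga4h.UlaDvr
import Groth.Agent.Sga7.H516.LatCoord
import Groth.Agent.S0538
import Groth.Agent.S0539
import Mathlib.FieldTheory.Galois.Infinite

/-!
# The strict henselization of a discrete valuation ring

`R` a discrete valuation ring, `R'` a strict henselization of `R`.

* `isDomain`, `isDiscreteValuationRing`: `R'` is a discrete valuation ring.
* `irreducible_algebraMap`: a uniformizer of `R` is a uniformizer of `R'`.
* `exists_algEquiv`: every automorphism of the residue field of `R'` over the residue field of `R`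
  lifts to an automorphism of `R'` over `R`.
* `inv_univ`: elements of `R'` invariant modulo `π` come from `R` modulo `π`.
-/

set_option autoImplicit false
universe u

open IsLocalRing

namespace Groth.Agent.Sga7.H516.SHBasic

section Aut

variable {R R' : Type u} [CommRing R] [IsLocalRing R] [CommRing R'] [IsLocalRing R'] [Algebra R R']
  [IsLocalHom (algebraMap R R')]

theorem residueMap_apply (x : ResidueField R) :
    ResidueField.map (algebraMap R R') x = algebraMap (ResidueField R) (ResidueField R') x := rfl

theorem exists_algHom [Hensel.IsStrictHenselization R R']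
    (τ : ResidueField R' ≃ₐ[ResidueField R] ResidueField R') :
    ∃ σ : R' →ₐ[R] R', ∀ x, residue R' (σ x) = τ (residue R' x) := by
  have : HenselianLocalRing R' := Hensel.IsStrictHenselization.henselian (R := R)
  obtain ⟨g, ⟨hg, hg'⟩, -⟩ := Hensel.IsStrictHenselization.universal (R := R) (S := R') R'
    (algebraMap R R') (τ : ResidueField R' →+* ResidueField R') (by
      ext x
      simp only [RingHom.comp_apply, residueMap_apply]
      exact τ.commutes _)
  exact ⟨{ g with commutes' := fun r => congr($hg r) }, hg'⟩

theorem algHom_ext_of_residue [Hensel.IsStrictHenselization R R'] {f g : R' →ₐ[R] R'}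
    (τ : ResidueField R' ≃ₐ[ResidueField R] ResidueField R')
    (hf : ∀ x, residue R' (f x) = τ (residue R' x))
    (hg : ∀ x, residue R' (g x) = τ (residue R' x)) : f = g := by
  have : HenselianLocalRing R' := Hensel.IsStrictHenselization.henselian (R := R)
  obtain ⟨h, -, hu⟩ := Hensel.IsStrictHenselization.universal (R := R) (S := R') R'
    (algebraMap R R') (τ : ResidueField R' →+* ResidueField R') (by
      ext x
      simp only [RingHom.comp_apply, residueMap_apply]
      exact τ.commutes _)
  have h1 := hu (f : R' →+* R') ⟨f.comp_algebraMap, hf⟩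
  have h2 := hu (g : R' →+* R') ⟨g.comp_algebraMap, hg⟩
  apply AlgHom.coe_ringHom_injective
  exact h1.trans h2.symm

/-- Automorphisms of the residue field lift (uniquely) to the strict henselization. -/
theorem exists_algEquiv [Hensel.IsStrictHenselization R R']
    (τ : ResidueField R' ≃ₐ[ResidueField R] ResidueField R') :
    ∃ σ : R' ≃ₐ[R] R', ∀ x, residue R' (σ x) = τ (residue R' x) := by
  obtain ⟨f, hf⟩ := exists_algHom (R := R) (R' := R') τ
  obtain ⟨g, hg⟩ := exists_algHom (R := R) (R' := R') τ.symm
  refine ⟨AlgEquiv.ofAlgHom f g ?_ ?_, hf⟩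
  · refine algHom_ext_of_residue (R := R) AlgEquiv.refl (fun x => ?_) (fun x => rfl)
    rw [AlgHom.comp_apply, hf, hg]
    simp
  · refine algHom_ext_of_residue (R := R) AlgEquiv.refl (fun x => ?_) (fun x => rfl)
    rw [AlgHom.comp_apply, hg, hf]
    simp

/-- An `R`-automorphism of `R'` is an automorphism for the residue fields. -/
noncomputable def resAut (σ : R' ≃ₐ[R] R') :
    ResidueField R' ≃ₐ[ResidueField R] ResidueField R' :=
  AlgEquiv.ofRingEquiv (f := ResidueField.mapEquiv σ.toRingEquiv) (fun x => by
    obtain ⟨x, rfl⟩ := residue_surjective x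
    have h1 : algebraMap (ResidueField R) (ResidueField R') (residue R x) =
      residue R' (algebraMap R R' x) := rfl
    rw [h1]
    have h2 : ResidueField.mapEquiv σ.toRingEquiv (residue R' (algebraMap R R' x)) =
      residue R' (σ (algebraMap R R' x)) := rfl
    rw [h2, σ.commutes])

theorem resAut_residue (σ : R' ≃ₐ[R] R') (x : R') :
    resAut σ (residue R' x) = residue R' (σ x) := rfl

theorem resAut_surjective [Hensel.IsStrictHenselization R R'] :
    Function.Surjective (resAut : (R' ≃ₐ[R] R') → _) := by
  intro τ
  obtain ⟨σ, hσ⟩ := exists_algEquiv (R := R) (R' := R') τ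
  refine ⟨σ, AlgEquiv.ext fun x => ?_⟩
  obtain ⟨x, rfl⟩ := residue_surjective x
  rw [resAut_residue, hσ]

end Aut

section DVR

variable (R R' : Type u) [CommRing R] [IsDomain R] [IsDiscreteValuationRing R] [CommRing R']
  [IsLocalRing R'] [Algebra R R'] [IsLocalHom (algebraMap R R')] [Hensel.IsStrictHenselization R R']

theorem faithfullyFlat : Module.FaithfullyFlat R R' := Groth.Agent.S0539.result R R'

theorem algebraMap_injective : Function.Injective (algebraMap R R') := by
  have := faithfullyFlat R R'
  exact FaithfulSMul.algebraMap_injective R R'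

variable {R} in
/-- A uniformizer of `R` generates the maximal ideal of `R'`. -/
theorem maximalIdeal_eq {π : R} (hπ : Irreducible π) :
    maximalIdeal R' = Ideal.span {algebraMap R R' π} := by
  rw [← Groth.Agent.S0538.result R R', hπ.maximalIdeal_eq, Ideal.map_span, Set.image_singleton]

include R in
theorem isField_or_dvr : ∃ _ : IsDomain R', IsDiscreteValuationRing R' := by
  rcases Sga4h.UlaDvr.isField_or_dvr_of_ring R R'
    (IsDiscreteValuationRing.ringKrullDim_eq_one R).le with h | h
  · exfalso
    obtain ⟨π, hπ⟩ := IsDiscreteValuationRing.exists_irreducible R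
    have h1 : algebraMap R R' π ≠ 0 := by
      rw [Ne, map_eq_zero_iff _ (algebraMap_injective R R')]
      exact hπ.ne_zero
    obtain ⟨b, hb⟩ := h.mul_inv_cancel h1
    exact hπ.not_isUnit (isUnit_of_map_unit (algebraMap R R') π (IsUnit.of_mul_eq_one b hb))
  · exact h

include R in
theorem isDomain : IsDomain R' := (isField_or_dvr R R').1

include R in
theorem isDiscreteValuationRing [IsDomain R'] : IsDiscreteValuationRing R' :=
  (isField_or_dvr R R').2

variable {R} in
theorem algebraMap_ne_zero {π : R} (hπ : Irreducible π) : algebraMap R R' π ≠ 0 := by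
  rw [Ne, map_eq_zero_iff _ (algebraMap_injective R R')]
  exact hπ.ne_zero

variable {R} in
theorem isUnit_of_not_dvd {π : R} (hπ : Irreducible π) (x : R') (hx : ¬ algebraMap R R' π ∣ x) :
    IsUnit x := by
  by_contra h
  have h1 : x ∈ maximalIdeal R' := h
  rw [maximalIdeal_eq R' hπ, Ideal.mem_span_singleton] at h1
  exact hx h1

variable {R} in
theorem dvd_of_dvd_algebraMap {π : R} (hπ : Irreducible π) (r : R)
    (h : algebraMap R R' π ∣ algebraMap R R' r) : π ∣ r := by
  have h1 : algebraMap R R' r ∈ maximalIdeal R' := by
    rw [maximalIdeal_eq R' hπ, Ideal.mem_span_singleton]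
    exact h
  have h2 : r ∈ maximalIdeal R := by
    intro hr
    exact h1 (hr.map _)
  rwa [hπ.maximalIdeal_eq, Ideal.mem_span_singleton] at h2

variable {R} in
/-- A uniformizer of `R` is a uniformizer of `R'`. -/
theorem irreducible_algebraMap {π : R} (hπ : Irreducible π) : Irreducible (algebraMap R R' π) := by
  have := isDomain R R'
  have := isDiscreteValuationRing R R'
  exact (IsDiscreteValuationRing.irreducible_iff_uniformizer _).2 (maximalIdeal_eq R' hπ)

instance isGalois : IsGalois (ResidueField R) (ResidueField R') := by
  have h : IsSepClosure (ResidueField R) (ResidueField R') :=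
    Hensel.IsStrictHenselization.isSepClosure
  exact IsSepClosure.isGalois

variable {R} in
/-- The elements of `R'` which are invariant modulo `π` come from `R` modulo `π`. -/
theorem inv_univ {π : R} (hπ : Irreducible π) :
    LatCoord.Inv π (Set.univ : Set (R' ≃ₐ[R] R')) := by
  intro x hx
  have h1 : ∀ τ : ResidueField R' ≃ₐ[ResidueField R] ResidueField R', τ (residue R' x) =
      residue R' x := by
    intro τ
    obtain ⟨σ, hσ⟩ := exists_algEquiv (R := R) (R' := R') τ
    rw [← hσ, ← sub_eq_zero, ← map_sub, residue_eq_zero_iff, maximalIdeal_eq R' hπ,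
      Ideal.mem_span_singleton]
    exact hx σ trivial
  have h2 : residue R' x ∈ (⊥ : IntermediateField (ResidueField R) (ResidueField R')) :=
    (InfiniteGalois.mem_bot_iff_fixed _).2 h1
  rw [IntermediateField.mem_bot] at h2
  obtain ⟨y, hy⟩ := h2
  obtain ⟨r, rfl⟩ := residue_surjective y
  refine ⟨r, ?_⟩
  rw [← Ideal.mem_span_singleton, ← maximalIdeal_eq R' hπ, ← residue_eq_zero_iff, map_sub, ← hy,
    sub_eq_zero]
  rfl

end DVR

end Groth.Agent.Sga7.H516.SHBasic
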