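import Groth.Agent.Sga7.H516.SHBasic
import Groth.Agent.Sga7.H516.Lattice
import Mathlib.RingTheory.Flat.TorsionFree
import Mathlib.RingTheory.Localization.BaseChange
import Mathlib.RingTheory.IsTensorProduct

/-!
# Descent of lattices from the strict henselization of a discrete valuation ring

`R` a discrete valuation ring with fraction field `K`, `R'` a strict henselization with fraction
field `K'`, `V` any `K`-vector space, `M` an `R'`-submodule of `K' ⊗[K] V` with `K' M = K' ⊗[K] V`
which is stable under all `σ ⊗ 1`, `σ` an automorphism of `R'` over `R`.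

* `eq_span`: `M` is generated over `R'` by `M ∩ V`.
* `exists_smul_mem_rat`: `K (M ∩ V) = V`.
* `isBaseChange`: `R' ⊗[R] (M ∩ V) ≃ M`.
-/

set_option autoImplicit false
set_option linter.unusedSectionVars false
universe u v

open IsLocalRing
open scoped TensorProduct

namespace Groth.Agent.Sga7.H516.SHLattice

section Incl

variable {R R' K K' : Type*} [CommRing R] [CommRing R'] [Algebra R R']
  [Field K] [Algebra R K] [Field K'] [Algebra R' K']
  [Algebra K K'] [Algebra R K'] [IsScalarTower R K K'] [IsScalarTower R R' K']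
  {V : Type*} [AddCommGroup V] [Module K V] [Module R V] [IsScalarTower R K V]

theorem one_tmul_smul (r : R) (v : V) :
    (1 : K') ⊗ₜ[K] (r • v) = algebraMap R R' r • ((1 : K') ⊗ₜ[K] v : K' ⊗[K] V) := by
  rw [TensorProduct.smul_tmul', ← IsScalarTower.algebraMap_smul K r v,
    ← TensorProduct.smul_tmul]
  congr 1
  rw [Algebra.smul_def, Algebra.smul_def, ← IsScalarTower.algebraMap_apply,
    ← IsScalarTower.algebraMap_apply]

variable (R) in
/-- The inclusion `M ∩ V → M`. -/
noncomputable def incl (M : Submodule R' (K' ⊗[K] V)) : Lattice.rat R M →ₗ[R] M where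
  toFun v := ⟨(1 : K') ⊗ₜ[K] (v : V), v.2⟩
  map_add' a b := Subtype.ext (TensorProduct.tmul_add _ _ _)
  map_smul' r a := Subtype.ext (by
    have h1 := one_tmul_smul (R' := R') (K := K) (K' := K') r (a : V)
    rw [algebraMap_smul] at h1
    exact h1)

theorem coe_incl (M : Submodule R' (K' ⊗[K] V)) (v : Lattice.rat R M) :
    (incl R M v : K' ⊗[K] V) = (1 : K') ⊗ₜ[K] (v : V) := rfl

end Incl

variable (R R' : Type u) (K K' : Type*) [CommRing R] [IsDomain R] [IsDiscreteValuationRing R]
  [CommRing R'] [IsDomain R'] [IsLocalRing R'] [Algebra R R'] [IsLocalHom (algebraMap R R')]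
  [Hensel.IsStrictHenselization R R']
  [Field K] [Algebra R K] [IsFractionRing R K] [Field K'] [Algebra R' K'] [IsFractionRing R' K']
  [Algebra K K'] [Algebra R K'] [IsScalarTower R K K'] [IsScalarTower R R' K']
  {V : Type*} [AddCommGroup V] [Module K V] [Module R V] [IsScalarTower R K V]

/-- Every nonzero element of `R'` divides a power of the uniformizer of `R`. -/
theorem dvd_pow {π : R} (hπ : Irreducible π) (x : R') (hx : x ≠ 0) :
    ∃ n : ℕ, x ∣ algebraMap R R' π ^ n := by
  have := SHBasic.isDiscreteValuationRing R R'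
  obtain ⟨n, hn⟩ := IsDiscreteValuationRing.associated_pow_irreducible hx
    (SHBasic.irreducible_algebraMap R' hπ)
  exact ⟨n, hn.dvd⟩

/-- **Descent of lattices** from the strict henselization. -/
theorem eq_span (M : Submodule R' (K' ⊗[K] V))
    (hM : ∀ σ : R' ≃ₐ[R] R', ∀ x ∈ M, Lattice.act K K' V σ x ∈ M)
    (hspan : ∀ v : V, ∃ r : R, r ≠ 0 ∧
      algebraMap R R' r • ((1 : K') ⊗ₜ[K] v : K' ⊗[K] V) ∈ M) :
    M = Submodule.span R' ((fun v : V => (1 : K') ⊗ₜ[K] v) '' (Lattice.rat R M : Set V)) := by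
  obtain ⟨π, hπ⟩ := IsDiscreteValuationRing.exists_irreducible R
  refine Lattice.le_span_of_stable hπ.ne_zero (SHBasic.algebraMap_ne_zero R' hπ)
    (dvd_pow R R' hπ) (SHBasic.inv_univ R' hπ) (SHBasic.isUnit_of_not_dvd R' hπ)
    (SHBasic.dvd_of_dvd_algebraMap R' hπ) M (fun σ _ => hM σ) fun v => ?_
  obtain ⟨r, hr, h⟩ := hspan v
  obtain ⟨n, u, hn⟩ := IsDiscreteValuationRing.associated_pow_irreducible hr hπ
  refine ⟨n, ?_⟩
  rw [← map_pow, ← hn, mul_comm, map_mul, mul_smul]
  exact M.smul_mem _ h

omit [Hensel.IsStrictHenselization R R'] in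
/-- `K (M ∩ V) = V`. -/
theorem exists_smul_mem_rat (M : Submodule R' (K' ⊗[K] V)) (v : V)
    (hspan : ∃ r : R, r ≠ 0 ∧ algebraMap R R' r • ((1 : K') ⊗ₜ[K] v : K' ⊗[K] V) ∈ M) :
    ∃ r : R, r ≠ 0 ∧ r • v ∈ Lattice.rat R M := by
  obtain ⟨r, hr, h⟩ := hspan
  refine ⟨r, hr, ?_⟩
  rw [Lattice.mem_rat, one_tmul_smul (R' := R')]
  exact h

/-- The comparison map `R' ⊗[R] V → K' ⊗[K] V` is injective. -/
theorem injective_map [Module.Flat R V] :
    Function.Injective (TensorProduct.mapOfCompatibleSMul K R R K' V ∘ₗ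
      LinearMap.rTensor V (IsScalarTower.toAlgHom R R' K').toLinearMap) := by
  have h1 := IsLocalization.tensorProduct_compatibleSMul (nonZeroDivisors R) K K' V
  have h2 : Function.Injective (TensorProduct.mapOfCompatibleSMul K R R K' V) :=
    (TensorProduct.equivOfCompatibleSMul R K R K' V).symm.injective
  have h3 : Function.Injective (LinearMap.rTensor V (IsScalarTower.toAlgHom R R' K').toLinearMap) :=
    Module.Flat.rTensor_preserves_injective_linearMap _ (IsFractionRing.injective R' K')
  exact h2.comp h3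

theorem lift_smul {R R' N M : Type*} [CommRing R] [CommRing R'] [Algebra R R'] [AddCommGroup N]
    [AddCommGroup M] [Module R N] [Module R M] [Module R' M] [IsScalarTower R R' M]
    (F : R' →ₗ[R] N →ₗ[R] M) {f : N →ₗ[R] M} (hF : ∀ s m, F s m = s • f m) (a : R')
    (z : R' ⊗[R] N) : TensorProduct.lift F (a • z) = a • TensorProduct.lift F z := by
  induction z with
  | zero => simp
  | tmul s m =>
    rw [TensorProduct.smul_tmul', TensorProduct.lift.tmul, TensorProduct.lift.tmul, hF, hF,
      smul_assoc]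
  | add z z' hz hz' => rw [smul_add, map_add, map_add, smul_add, hz, hz']

/-- **Descent of lattices**: `R' ⊗[R] (M ∩ V) = M`. -/
theorem isBaseChange (M : Submodule R' (K' ⊗[K] V))
    (hM : ∀ σ : R' ≃ₐ[R] R', ∀ x ∈ M, Lattice.act K K' V σ x ∈ M)
    (hspan : ∀ v : V, ∃ r : R, r ≠ 0 ∧
      algebraMap R R' r • ((1 : K') ⊗ₜ[K] v : K' ⊗[K] V) ∈ M) :
    IsBaseChange R' (incl R M) := by
  have hKV : Module.Flat R V := by
    have h0 : Module.Flat R K := IsLocalization.flat K (nonZeroDivisors R)
    exact Module.Flat.trans R K V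
  have hRR' : Module.Flat R R' := by
    have := SHBasic.faithfullyFlat R R'
    infer_instance
  let F : R' →ₗ[R] Lattice.rat R M →ₗ[R] M :=
    (((Algebra.linearMap R' <| Module.End R' (Lattice.rat R M →ₗ[R] M)).flip
      (incl R M)).restrictScalars R)
  have hF : ∀ s m, F s m = s • incl R M m := fun s m => rfl
  have hcomp : (M.subtype.restrictScalars R) ∘ₗ TensorProduct.lift F =
      (TensorProduct.mapOfCompatibleSMul K R R K' V ∘ₗ
      LinearMap.rTensor V (IsScalarTower.toAlgHom R R' K').toLinearMap) ∘ₗ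
      LinearMap.lTensor R' (Lattice.rat R M).subtype := by
    apply TensorProduct.ext'
    intro s m
    simp only [LinearMap.comp_apply, TensorProduct.lift.tmul, hF, LinearMap.lTensor_tmul,
      LinearMap.rTensor_tmul, TensorProduct.mapOfCompatibleSMul_tmul,
      LinearMap.coe_restrictScalars, map_smul, Submodule.subtype_apply, coe_incl,
      TensorProduct.smul_tmul']
    congr 1
    rw [Algebra.smul_def, mul_one]
    rfl
  refine ⟨?_, fun x => ?_⟩
  · have h1 : Function.Injective ((M.subtype.restrictScalars R) ∘ₗ TensorProduct.lift F) := by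
      rw [hcomp]
      exact (injective_map R R' K K').comp
        (Module.Flat.lTensor_preserves_injective_linearMap _ (Submodule.injective_subtype _))
    exact Function.Injective.of_comp (g := TensorProduct.lift F) (f := M.subtype) h1
  · have h2 := (eq_span R R' K K' M hM hspan).le x.2
    have h3 : ∀ y ∈ Submodule.span R' ((fun v : V => (1 : K') ⊗ₜ[K] v) ''
        (Lattice.rat R M : Set V)), ∃ z, ((TensorProduct.lift F z : M) : K' ⊗[K] V) = y := by
      intro y hy
      induction hy using Submodule.span_induction with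
      | mem y hy =>
        obtain ⟨v, hv, rfl⟩ := hy
        refine ⟨1 ⊗ₜ ⟨v, hv⟩, ?_⟩
        rw [TensorProduct.lift.tmul, hF, one_smul, coe_incl]
      | zero => exact ⟨0, by rw [map_zero]; rfl⟩
      | add y y' _ _ hy hy' =>
        obtain ⟨z, rfl⟩ := hy
        obtain ⟨z', rfl⟩ := hy'
        exact ⟨z + z', by rw [map_add]; rfl⟩
      | smul a y _ hy =>
        obtain ⟨z, rfl⟩ := hy
        refine ⟨a • z, ?_⟩
        have h4 := lift_smul (N := Lattice.rat R M) (M := M) F (f := incl R M) hF a z
        rw [h4]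
        rfl
    obtain ⟨z, hz⟩ := h3 _ h2
    exact ⟨z, Subtype.ext hz⟩

end Groth.Agent.Sga7.H516.SHLattice
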