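import Groth.Agent.Sga7.H516.SHLattice
import Groth.Agent.Sga7.H116.L1
import Mathlib.AlgebraicGeometry.Pullbacks
import Mathlib.Algebra.Category.Ring.Constructions

/-!
# The square of spectra of a discrete valuation ring and its strict henselization

`R` a discrete valuation ring, `R'` a strict henselization, `K`, `K'` the fraction fields.

* `isPullback_sp`: `Spec K' = Spec K ×_{Spec R} Spec R'`.
* `spAut σ`, `spAutK σ`: the automorphisms of `Spec R'`, `Spec K'` attached to an automorphism `σ`
  of `R'` over `R`; `isPullback_spAut`.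
-/

set_option autoImplicit false
set_option linter.unusedSectionVars false
universe u

open CategoryTheory CategoryTheory.Limits AlgebraicGeometry

namespace Groth.Agent.Sga7.H516.Square

/-- The morphism of spectra attached to an algebra. -/
noncomputable abbrev sp (R R' : Type u) [CommRing R] [CommRing R'] [Algebra R R'] :
    Spec (CommRingCat.of R') ⟶ Spec (CommRingCat.of R) :=
  Spec.map (CommRingCat.ofHom (algebraMap R R'))

theorem sp_comp (R R' R'' : Type u) [CommRing R] [CommRing R'] [CommRing R''] [Algebra R R']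
    [Algebra R' R''] [Algebra R R''] [IsScalarTower R R' R''] :
    sp R' R'' ≫ sp R R' = sp R R'' := by
  rw [sp, sp, sp, ← Spec.map_comp, ← CommRingCat.ofHom_comp, ← IsScalarTower.algebraMap_eq]

section General

variable (R R' K K' : Type u) [CommRing R] [IsDomain R] [CommRing R'] [IsDomain R'] [Algebra R R']
  [Field K] [Algebra R K] [IsFractionRing R K] [Field K'] [Algebra R' K'] [IsFractionRing R' K']
  [Algebra K K'] [Algebra R K'] [IsScalarTower R K K'] [IsScalarTower R R' K']

/-- `K'` is the localization of `R'` at the nonzero elements of `R`. -/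
theorem isLocalization_of_dvd (hinj : Function.Injective (algebraMap R R'))
    (hdiv : ∀ x : R', x ≠ 0 → ∃ r : R, r ≠ 0 ∧ x ∣ algebraMap R R' r) :
    IsLocalization ((nonZeroDivisors R).map (algebraMap R R')) K' where
  map_units := by
    rintro ⟨_, r, hr, rfl⟩
    refine IsUnit.mk0 _ ?_
    rw [Ne, IsFractionRing.to_map_eq_zero_iff, map_eq_zero_iff _ hinj]
    exact nonZeroDivisors.ne_zero hr
  surj z := by
    obtain ⟨x, y, hy, rfl⟩ := IsFractionRing.div_surjective R' z
    obtain ⟨r, hr, c, hc⟩ := hdiv y (nonZeroDivisors.ne_zero hy)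
    refine ⟨⟨x * c, ⟨_, ⟨r, mem_nonZeroDivisors_of_ne_zero hr, rfl⟩⟩⟩, ?_⟩
    have hy0 : algebraMap R' K' y ≠ 0 := by
      rw [Ne, IsFractionRing.to_map_eq_zero_iff]
      exact nonZeroDivisors.ne_zero hy
    dsimp only
    rw [hc, map_mul, map_mul]
    field_simp
  exists_of_eq {x y} h := ⟨1, by rw [IsFractionRing.injective R' K' h]⟩

theorem isPullback_sp_of_dvd (hinj : Function.Injective (algebraMap R R'))
    (hdiv : ∀ x : R', x ≠ 0 → ∃ r : R, r ≠ 0 ∧ x ∣ algebraMap R R' r) :
    IsPullback (sp K K') (sp R' K') (sp R K) (sp R R') := by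
  have h1 := isLocalization_of_dvd R R' K' hinj hdiv
  have h2 := CommRingCat.isPushout_of_isLocalization (algebraMap R R') (algebraMap K K') (by
    rw [← IsScalarTower.algebraMap_eq, ← IsScalarTower.algebraMap_eq]) (Rₘ := K) (Sₘ := K')
    (nonZeroDivisors R)
  exact (isPullback_SpecMap_of_isPushout _ _ _ _ h2).flip

end General

section Aut

variable {R R' : Type u} (K K' : Type u) [CommRing R] [IsDomain R] [CommRing R'] [IsDomain R']
  [Algebra R R'] [Field K] [Algebra R K] [IsFractionRing R K] [Field K'] [Algebra R' K']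
  [IsFractionRing R' K'] [Algebra K K'] [Algebra R K'] [IsScalarTower R K K']
  [IsScalarTower R R' K']

/-- The automorphism of `Spec R'` attached to `σ`. -/
noncomputable abbrev spAut (σ : R' ≃ₐ[R] R') :
    Spec (CommRingCat.of R') ⟶ Spec (CommRingCat.of R') :=
  Spec.map (CommRingCat.ofHom (σ : R' →+* R'))

/-- The automorphism of `Spec K'` attached to `σ`. -/
noncomputable abbrev spAutK (σ : R' ≃ₐ[R] R') :
    Spec (CommRingCat.of K') ⟶ Spec (CommRingCat.of K') :=
  Spec.map (CommRingCat.ofHom (IsFractionRing.fieldEquivOfAlgEquiv K K' K' σ : K' →+* K'))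

instance isIso_spAut (σ : R' ≃ₐ[R] R') : IsIso (spAut σ) := by
  have : IsIso (CommRingCat.ofHom (σ : R' →+* R')) := σ.toRingEquiv.toCommRingCatIso.isIso_hom
  infer_instance

instance isIso_spAutK (σ : R' ≃ₐ[R] R') : IsIso (spAutK K K' σ) := by
  have : IsIso (CommRingCat.ofHom (IsFractionRing.fieldEquivOfAlgEquiv K K' K' σ : K' →+* K')) :=
    (IsFractionRing.fieldEquivOfAlgEquiv K K' K' σ).toRingEquiv.toCommRingCatIso.isIso_hom
  infer_instance

@[reassoc]
theorem spAut_sp (σ : R' ≃ₐ[R] R') : spAut σ ≫ sp R R' = sp R R' := by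
  rw [← Spec.map_comp, ← CommRingCat.ofHom_comp]
  congr 2
  ext x
  simp

@[reassoc]
theorem spAutK_sp (σ : R' ≃ₐ[R] R') : spAutK K K' σ ≫ sp K K' = sp K K' := by
  rw [← Spec.map_comp, ← CommRingCat.ofHom_comp]
  congr 2
  ext x
  simp

@[reassoc]
theorem spAutK_sp' (σ : R' ≃ₐ[R] R') : spAutK K K' σ ≫ sp R' K' = sp R' K' ≫ spAut σ := by
  rw [← Spec.map_comp, ← CommRingCat.ofHom_comp, ← Spec.map_comp, ← CommRingCat.ofHom_comp]
  congr 2
  ext x
  simp

theorem isPullback_spAut (σ : R' ≃ₐ[R] R') :
    IsPullback (sp R' K') (spAutK K K' σ) (spAut σ) (sp R' K') :=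
  IsPullback.of_vert_isIso ⟨(spAutK_sp' K K' σ).symm⟩

end Aut

section SH

variable (R R' K K' : Type u) [CommRing R] [IsDomain R] [IsDiscreteValuationRing R] [CommRing R']
  [IsDomain R'] [IsLocalRing R'] [Algebra R R'] [IsLocalHom (algebraMap R R')]
  [Hensel.IsStrictHenselization R R']
  [Field K] [Algebra R K] [IsFractionRing R K] [Field K'] [Algebra R' K'] [IsFractionRing R' K']
  [Algebra K K'] [Algebra R K'] [IsScalarTower R K K'] [IsScalarTower R R' K']

theorem exists_dvd (x : R') (hx : x ≠ 0) : ∃ r : R, r ≠ 0 ∧ x ∣ algebraMap R R' r := by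
  obtain ⟨π, hπ⟩ := IsDiscreteValuationRing.exists_irreducible R
  obtain ⟨n, hn⟩ := SHLattice.dvd_pow R R' hπ x hx
  exact ⟨π ^ n, pow_ne_zero _ hπ.ne_zero, by rwa [map_pow]⟩

theorem isPullback_sp : IsPullback (sp K K') (sp R' K') (sp R K) (sp R R') :=
  isPullback_sp_of_dvd R R' K K' (SHBasic.algebraMap_injective R R') (exists_dvd R R')

instance flat_sp : Flat (sp R R') := by
  have := SHBasic.faithfullyFlat R R'
  rw [HasRingHomProperty.Spec_iff (P := @Flat)]
  change (algebraMap R R').Flat
  rw [RingHom.flat_algebraMap_iff]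
  infer_instance

instance surjective_sp : Surjective (sp R R') := by
  have := SHBasic.faithfullyFlat R R'
  constructor
  exact PrimeSpectrum.comap_surjective_of_faithfullyFlat

end SH

end Groth.Agent.Sga7.H516.Square
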